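import Groth.Agent.H23FunFld.Basic
import Mathlib.Topology.Algebra.Order.Field

/-! The approximation theorem for finitely many places. -/

set_option autoImplicit false

namespace Groth.Agent.H23FunFld

open WithZero

variable {k K : Type*} [Field k] [Field K] [Algebra k K]

theorem place_eq_of_le {P Q : FunFld.Place k K} (h : ∀ x : K, P.1 x ≤ 1 → Q.1 x ≤ 1) :
    P = Q := by
  have hunit : ∀ u : K, P.1 u = 1 → Q.1 u = 1 := by
    intro u hu
    refine le_antisymm (h u hu.le) ?_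
    have hu0 : u ≠ 0 := by rintro rfl; simp at hu
    have := h u⁻¹ (by simp [map_inv₀, hu])
    rw [map_inv₀] at this
    exact (inv_le_one₀ (zero_lt_iff.2 (val_ne_zero Q hu0))).1 this
  obtain ⟨t, ht0, ht⟩ := exists_val_eq P (-1)
  have key : ∀ x : K, x ≠ 0 → Q.ord x = P.ord x * Q.ord t := by
    intro x hx
    have hu : P.1 (x / t ^ P.ord x) = 1 := by
      rw [map_div₀, map_zpow₀, ht, val_eq_exp P hx, ← exp_zsmul, smul_eq_mul, mul_neg, mul_one,
        div_self (exp_ne_zero)]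
    have h1 := hunit _ hu
    rw [map_div₀, map_zpow₀, val_eq_exp Q hx, val_eq_exp Q ht0, ← exp_zsmul, ← exp_sub,
      smul_eq_mul, ← exp_zero, exp_inj] at h1
    linarith
  have h1 : 0 ≤ Q.ord t := (val_le_one_iff Q ht0).1 (h t (by
    rw [ht]; exact (exp_le_exp (a := (-1 : ℤ)) (b := 0)).2 (by omega)))
  obtain ⟨s, hs0, hs⟩ := exists_val_eq Q (-1)
  have h2 : Q.ord s = 1 := by simp [FunFld.Place.ord, hs]
  rw [key s hs0] at h2
  have h3 : Q.ord t = 1 := by
    rcases Int.eq_one_or_neg_one_of_mul_eq_one' h2 with ⟨_, h4⟩ | ⟨_, h4⟩ <;> omega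
  apply Subtype.ext
  ext x
  rcases eq_or_ne x 0 with rfl | hx
  · simp
  · rw [val_eq_exp P hx, val_eq_exp Q hx, key x hx, h3, mul_one]

theorem exists_separating_pair {P Q : FunFld.Place k K} (hne : P ≠ Q) :
    ∃ x : K, 1 < P.1 x ∧ Q.1 x < 1 := by
  obtain ⟨a, ha, ha'⟩ : ∃ a, P.1 a ≤ 1 ∧ 1 < Q.1 a := by
    by_contra h
    simp only [not_exists, not_and, not_lt] at h
    exact hne (place_eq_of_le h)
  obtain ⟨b, hb, hb'⟩ : ∃ b, Q.1 b ≤ 1 ∧ 1 < P.1 b := by
    by_contra h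
    simp only [not_exists, not_and, not_lt] at h
    exact hne (place_eq_of_le h).symm
  have hapos : 0 < Q.1 a := zero_lt_one.trans ha'
  have ha0 : a ≠ 0 := by rintro rfl; simp at hapos
  refine ⟨b / a, ?_, ?_⟩
  · rw [map_div₀, one_lt_div₀ (zero_lt_iff.2 (val_ne_zero P ha0))]
    exact ha.trans_lt hb'
  · rw [map_div₀, div_lt_one₀ hapos]
    exact hb.trans_lt ha'

theorem exists_exp_neg_nat_bound (m : ℤ) : ∃ n : ℕ, ∀ r : ℕ, n ≤ r →
    (exp (-(r : ℤ)) : WithZero (Multiplicative ℤ)) ≤ exp m :=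
  ⟨(-m).toNat, fun r hr => exp_le_exp.2 (by omega)⟩

theorem pow_le_exp_of_lt_one {a : WithZero (Multiplicative ℤ)} (ha : a < 1) (r : ℕ) :
    a ^ r ≤ exp (-(r : ℤ)) := by
  rcases eq_or_ne a 0 with rfl | h0
  · rcases r with _ | r <;> simp
  · rw [← exp_log h0, ← exp_zero, exp_lt_exp] at ha
    rw [← exp_log h0, ← exp_nsmul, exp_le_exp, nsmul_eq_mul]
    nlinarith

theorem exists_pow_mul_lt_one {a b : WithZero (Multiplicative ℤ)} (ha : a < 1) :
    ∃ n : ℕ, ∀ r : ℕ, n ≤ r → a ^ r * b < 1 := by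
  rcases eq_or_ne b 0 with rfl | hb
  · exact ⟨0, fun r _ => by simp⟩
  · refine ⟨(log b + 1).toNat, fun r hr => ?_⟩
    calc a ^ r * b ≤ exp (-(r : ℤ)) * exp (log b) :=
          mul_le_mul' (pow_le_exp_of_lt_one ha r) (exp_log hb).ge
      _ < 1 := by rw [← exp_add, ← exp_zero, exp_lt_exp]; omega

theorem exists_separating (P : FunFld.Place k K) (S : Finset (FunFld.Place k K)) (hP : P ∉ S) :
    ∃ x : K, 1 < P.1 x ∧ ∀ Q ∈ S, Q.1 x < 1 := by
  classical
  induction S using Finset.induction_on with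
  | empty =>
    obtain ⟨x, _, hx⟩ := exists_val_eq P 1
    exact ⟨x, by rw [hx, ← exp_zero, exp_lt_exp]; omega, by simp⟩
  | insert R S hR ih =>
    rw [Finset.mem_insert, not_or] at hP
    obtain ⟨x, hxP, hxS⟩ := ih hP.2
    obtain ⟨z, hzP, hzR⟩ := exists_separating_pair (P := P) (Q := R) hP.1
    have hex : ∀ Q ∈ S, ∃ n : ℕ, ∀ r : ℕ, n ≤ r → Q.1 x ^ r * Q.1 z < 1 :=
      fun Q hQ => exists_pow_mul_lt_one (hxS Q hQ)
    choose n hn using hex
    set r := (S.attach.sup fun Q => n Q.1 Q.2) + 1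
    have hnr : ∀ Q (hQ : Q ∈ S), n Q hQ ≤ r := fun Q hQ =>
      le_add_right (Finset.le_sup (f := fun Q : {x // x ∈ S} => n Q.1 Q.2)
        (Finset.mem_attach S ⟨Q, hQ⟩))
    rcases le_or_gt (R.1 x) 1 with hRx | hRx
    · refine ⟨x ^ r * z, ?_, ?_⟩
      · rw [map_mul, map_pow]
        exact hzP.trans_le (le_mul_of_one_le_left zero_le (one_le_pow₀ hxP.le))
      · intro Q hQ
        rw [map_mul, map_pow]
        rcases Finset.mem_insert.1 hQ with rfl | hQ
        · exact (mul_le_of_le_one_left zero_le (pow_le_one₀ zero_le hRx)).trans_lt hzR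
        · exact hn Q hQ r (hnr Q hQ)
    · have big : ∀ Q : FunFld.Place k K, 1 < Q.1 x → Q.1 (x ^ r / (1 + x ^ r)) = 1 := by
        intro Q hQ
        have h1 : 1 < Q.1 (x ^ r) := by rw [map_pow]; exact one_lt_pow₀ hQ (by omega)
        have h2 : Q.1 (1 + x ^ r) = Q.1 (x ^ r) :=
          Q.1.map_add_eq_of_lt_right (by rw [map_one]; exact h1)
        rw [map_div₀, h2, div_self (zero_lt_one.trans h1).ne']
      refine ⟨x ^ r / (1 + x ^ r) * z, ?_, ?_⟩
      · rw [map_mul, big P hxP, one_mul]; exact hzP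
      · intro Q hQ
        rcases Finset.mem_insert.1 hQ with rfl | hQ
        · rw [map_mul, big Q hRx, one_mul]; exact hzR
        · have h1 : Q.1 (x ^ r) < 1 := by
            rw [map_pow]; exact pow_lt_one₀ zero_le (hxS Q hQ) (by omega)
          have h2 : Q.1 (1 + x ^ r) = 1 := by
            rw [Q.1.map_add_eq_of_lt_left (by rw [map_one]; exact h1), map_one]
          rw [map_mul, map_div₀, h2, div_one, map_pow]
          exact hn Q hQ r (hnr Q hQ)

/-- The approximation theorem. -/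
theorem approximation (S : Finset (FunFld.Place k K)) (a : FunFld.Place k K → K)
    (m : FunFld.Place k K → ℤ) : ∃ x : K, ∀ P ∈ S, P.1 (x - a P) ≤ exp (m P) := by
  classical
  have hsep : ∀ P : FunFld.Place k K, ∃ x : K, 1 < P.1 x ∧ ∀ Q ∈ S.erase P, Q.1 x < 1 :=
    fun P => exists_separating P _ (Finset.notMem_erase P S)
  choose e he he' using hsep
  have hex : ∀ P Q : FunFld.Place k K, ∃ n : ℕ, ∀ r : ℕ, n ≤ r →
      exp (-(r : ℤ)) * Q.1 (a P) ≤ exp (m Q) := by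
    intro P Q
    rcases eq_or_ne (Q.1 (a P)) 0 with h | h
    · exact ⟨0, fun r _ => by simp [h]⟩
    · obtain ⟨n, hn⟩ := exists_exp_neg_nat_bound (m Q - log (Q.1 (a P)))
      refine ⟨n, fun r hr => ?_⟩
      calc exp (-(r : ℤ)) * Q.1 (a P) ≤ exp (m Q - log (Q.1 (a P))) * exp (log (Q.1 (a P))) :=
            mul_le_mul' (hn r hr) (exp_log h).ge
        _ = exp (m Q) := by rw [← exp_add, sub_add_cancel]
  choose n hn using hex
  set r := (S ×ˢ S).sup (fun p => n p.1 p.2) + 1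
  refine ⟨∑ P ∈ S, e P ^ r / (1 + e P ^ r) * a P, fun Q hQ => ?_⟩
  rw [← Finset.add_sum_erase S _ hQ]
  have hnr : ∀ P ∈ S, n P Q ≤ r := fun P hP =>
    le_add_right (Finset.le_sup (f := fun p : _ × _ => n p.1 p.2)
      (b := (P, Q)) (Finset.mem_product.2 ⟨hP, hQ⟩))
  have h1 : 1 < Q.1 (e Q ^ r) := by rw [map_pow]; exact one_lt_pow₀ (he Q) (by omega)
  have h2 : Q.1 (1 + e Q ^ r) = Q.1 (e Q ^ r) :=
    Q.1.map_add_eq_of_lt_right (by rw [map_one]; exact h1)
  have h3 : e Q ^ r / (1 + e Q ^ r) - 1 = -(1 + e Q ^ r)⁻¹ := by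
    have : (1 + e Q ^ r) ≠ 0 := by
      intro h; rw [h, map_zero] at h2; rw [← h2] at h1; simp at h1
    field_simp
    ring
  rw [show ∀ u v : K, u * a Q + v - a Q = (u - 1) * a Q + v from fun u v => by ring]
  refine (Q.1.map_add _ _).trans (max_le ?_ ?_)
  · rw [h3, map_mul, Valuation.map_neg, map_inv₀, h2]
    refine le_trans (mul_le_mul' ?_ le_rfl) (hn Q Q r (hnr Q hQ))
    rw [map_pow, ← inv_pow]
    exact pow_le_exp_of_lt_one (inv_lt_one_of_one_lt₀ (he Q)) r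
  · refine Q.1.map_sum_le fun P hP => ?_
    obtain ⟨hPQ, hPS⟩ := Finset.mem_erase.1 hP
    have hQP : Q.1 (e P) < 1 := he' P Q (Finset.mem_erase.2 ⟨hPQ.symm, hQ⟩)
    have h4 : Q.1 (e P ^ r) < 1 := by rw [map_pow]; exact pow_lt_one₀ zero_le hQP (by omega)
    have h5 : Q.1 (1 + e P ^ r) = 1 := by
      rw [Q.1.map_add_eq_of_lt_left (by rw [map_one]; exact h4), map_one]
    rw [map_mul, map_div₀, h5, div_one, map_pow]
    exact le_trans (mul_le_mul' (pow_le_exp_of_lt_one hQP r) le_rfl) (hn P Q r (hnr P hPS))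

end Groth.Agent.H23FunFld
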