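import Groth.Agent.H23FunFld.Places
import Mathlib.RingTheory.AlgebraTower

/-! Degrees of places and of principal divisors; finiteness of `L(D)`. -/

set_option autoImplicit false

namespace Groth.Agent.H23FunFld

open WithZero

variable {k K : Type*} [Field k] [Field K] [Algebra k K] (hK : FunFld.IsFunctionField k K)
include hK

theorem finiteDimensional_residueField (P : FunFld.Place k K) :
    FiniteDimensional k (IsLocalRing.ResidueField P.O) := by
  classical
  obtain ⟨t, ht0, ht⟩ := exists_val_eq P (-1)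
  have ht1 : P.1 t < 1 := by
    rw [ht]; have : exp (-1 : ℤ) < exp (0 : ℤ) := exp_lt_exp.2 (by omega)
    rwa [exp_zero] at this
  obtain ⟨s, hsO, hs⟩ := finiteDimensional_of_valuationSubring hK P.O (fun c => P.2.1 c) t ht0
    ((P.1.isEquiv_valuation_valuationSubring.lt_one_iff_lt_one).1 ht1)
    (transcendental_of_val_ne_one P ht0 ht1.ne)
  let g : ↥s → IsLocalRing.ResidueField P.O := fun b => IsLocalRing.residue P.O ⟨b, hsO b.2⟩
  refine ⟨⟨Finset.univ.image g, ?_⟩⟩
  rw [eq_top_iff]
  rintro r -
  obtain ⟨a, rfl⟩ := IsLocalRing.residue_surjective r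
  obtain ⟨c, u, hu, ha⟩ := hs a a.2
  have e : a = (∑ b : ↥s, algebraMap k P.O (c b) * (⟨b, hsO b.2⟩ : P.O)) +
      ⟨t, ht1.le⟩ * ⟨u, hu⟩ := by
    apply Subtype.ext
    push_cast [algebraMap_O_coe]
    rw [ha, ← Finset.sum_coe_sort s]
    congr 1
    exact Finset.sum_congr rfl fun b _ => Algebra.smul_def _ _
  have ht' : IsLocalRing.residue P.O (⟨t, ht1.le⟩ : P.O) = 0 := by
    rw [IsLocalRing.residue_eq_zero_iff, ValuationSubring.valuation_lt_one_iff]
    exact (P.1.isEquiv_valuation_valuationSubring.lt_one_iff_lt_one).1 ht1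
  rw [e, map_add, map_mul, ht', zero_mul, add_zero, map_sum]
  refine Submodule.sum_mem _ fun b _ => ?_
  rw [map_mul]
  refine (Algebra.smul_def (c b) (g b)) ▸ Submodule.smul_mem _ _ (Submodule.subset_span ?_)
  simp

theorem deg_pos (P : FunFld.Place k K) : 0 < P.deg :=
  have := finiteDimensional_residueField hK P
  Module.finrank_pos

theorem deg_nonneg_lt {D : FunFld.Divisor k K} (hD : 0 ≤ D) (h : D.deg ≤ 0) : D = 0 := by
  by_contra h0
  obtain ⟨P, hP⟩ := Finsupp.support_nonempty_iff.2 h0
  have h1 : 0 < D P := lt_of_le_of_ne (hD P) (Ne.symm (Finsupp.mem_support_iff.1 hP))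
  have h2 : 0 < D.deg := Finset.sum_pos' (fun Q _ => mul_nonneg (hD Q) (Int.natCast_nonneg _))
    ⟨P, hP, mul_pos h1 (by exact_mod_cast deg_pos hK P)⟩
  omega

theorem sum_ord_mul_deg_le {x : K} (hx : Transcendental k x) (S : Finset (FunFld.Place k K))
    (hS : ∀ P ∈ S, 0 < P.ord x) :
    ∑ P ∈ S, P.ord x * (P.deg : ℤ) ≤
      Module.finrank (IntermediateField.adjoin k ({x} : Set K)) K := by
  classical
  have := finiteDimensional_adjoin hK hx
  have hx0 : x ≠ 0 := fun h => hx (h ▸ isAlgebraic_zero)
  set E : FunFld.Divisor k K := Finsupp.indicator S fun P _ => P.ord x with hE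
  have hEP : ∀ P ∈ S, E P = P.ord x := fun P hP => Finsupp.indicator_of_mem hP _
  have hE0 : 0 ≤ E := fun P => by
    by_cases hP : P ∈ S
    · rw [hEP P hP]; exact (hS P hP).le
    · simp [E, Finsupp.indicator_of_notMem hP]
  have hsupp : E.support ⊆ S := Finsupp.support_indicator_subset _ _
  have h := relDim_semiBall S (fun P _ => finiteDimensional_residueField hK P) (-E) E hE0 hsupp
  rw [neg_add_cancel] at h
  have hdeg : E.deg = ∑ P ∈ S, P.ord x * (P.deg : ℤ) := by
    rw [show E.deg = E.sum fun P n => n * (P.deg : ℤ) from rfl,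
      Finsupp.sum_of_support_subset E hsupp (fun P n => n * (P.deg : ℤ)) (fun _ _ => zero_mul _)]
    exact Finset.sum_congr rfl fun P hP => by rw [hEP P hP]
  have := h.1
  obtain ⟨b⟩ : Nonempty (Module.Basis (Fin (Module.finrank k
      (↥(semiBall (S : Set (FunFld.Place k K)) 0) ⧸
        (semiBall (S : Set (FunFld.Place k K)) (-E)).comap (semiBall (S : Set _) 0).subtype))) k
      (↥(semiBall (S : Set (FunFld.Place k K)) 0) ⧸
        (semiBall (S : Set (FunFld.Place k K)) (-E)).comap (semiBall (S : Set _) 0).subtype)) :=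
    ⟨Module.finBasis k _⟩
  have hsurj := Submodule.mkQ_surjective
    ((semiBall (S : Set (FunFld.Place k K)) (-E)).comap (semiBall (S : Set _) 0).subtype)
  choose w hw using hsurj
  have hxR : x ∈ semiRing (S : Set (FunFld.Place k K)) := mem_semiBall.2 fun P hP => by
    rw [Finsupp.coe_zero, Pi.zero_apply, exp_zero]
    exact (val_le_one_iff P hx0).2 (hS P hP).le
  have hli := linearIndependent_of_mod (semiRing (S : Set (FunFld.Place k K))) hxR hx
    (fun i => (w (b i) : K)) (fun i => (w (b i)).2) (by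
    intro s c r hr hc i hi
    have h0 : (∑ i ∈ s, c i • w (b i)) ∈
        (semiBall (S : Set (FunFld.Place k K)) (-E)).comap (semiBall (S : Set _) 0).subtype := by
      rw [Submodule.mem_comap, mem_semiBall]
      intro P hP
      rw [Submodule.coe_subtype]
      push_cast
      rw [hc, map_mul, Pi.neg_apply, hEP P hP, ← val_eq_exp P hx0]
      exact mul_le_of_le_one_right zero_le (by simpa using mem_semiBall.1 hr P hP)
    rw [← Submodule.Quotient.mk_eq_zero, ← Submodule.mkQ_apply, map_sum] at h0
    simp only [map_smul, hw] at h0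
    exact linearIndependent_iff'.1 b.linearIndependent s c h0 i hi)
  have := hli.fintype_card_le_finrank
  rw [Fintype.card_fin] at this
  rw [← hdeg, ← h.2]
  exact_mod_cast this

theorem finite_zeros (x : K) : {P : FunFld.Place k K | 0 < P.ord x}.Finite := by
  by_cases hx : x ∈ Set.range (algebraMap k K)
  · obtain ⟨c, rfl⟩ := hx
    simp [ord_const]
  have hx' := transcendental_of_notMem hK hx
  by_contra hinf
  obtain ⟨S, hS, hcard⟩ := Set.Infinite.exists_subset_card_eq hinf
    (Module.finrank (IntermediateField.adjoin k ({x} : Set K)) K + 1)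
  have h := sum_ord_mul_deg_le hK hx' S (fun P hP => hS hP)
  have h2 : ∑ _P ∈ S, (1 : ℤ) ≤ ∑ P ∈ S, P.ord x * (P.deg : ℤ) :=
    Finset.sum_le_sum fun P hP => by
      have := deg_pos hK P
      have h1 : 0 < P.ord x := hS hP
      nlinarith
  simp [hcard] at h2
  omega

theorem finite_support_ord (x : K) :
    (Function.support fun P : FunFld.Place k K => P.ord x).Finite := by
  refine ((finite_zeros hK x).union (finite_zeros hK x⁻¹)).subset fun P hP => ?_
  simp only [Function.mem_support] at hP
  simp only [Set.mem_union, Set.mem_setOf_eq, ord_inv]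
  omega

theorem div_apply (x : K) (P : FunFld.Place k K) : FunFld.div k x P = P.ord x := by
  rw [FunFld.div, dif_pos (finite_support_ord hK x)]
  rfl

theorem div_zero' : FunFld.div k (0 : K) = 0 :=
  Finsupp.ext fun P => by simp [div_apply hK, ord_zero]

theorem div_mul {x y : K} (hx : x ≠ 0) (hy : y ≠ 0) :
    FunFld.div k (x * y) = FunFld.div k x + FunFld.div k y :=
  Finsupp.ext fun P => by simp [div_apply hK, ord_mul P hx hy]

theorem div_inv (x : K) : FunFld.div k x⁻¹ = -FunFld.div k x :=
  Finsupp.ext fun P => by simp [div_apply hK, ord_inv]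

omit hK in
theorem mem_L {D : FunFld.Divisor k K} {x : K} :
    x ∈ FunFld.L D ↔ ∀ P : FunFld.Place k K, P.1 x ≤ exp (D P) := Iff.rfl

theorem mem_L_iff_div {D : FunFld.Divisor k K} {x : K} (hx : x ≠ 0) :
    x ∈ FunFld.L D ↔ 0 ≤ D + FunFld.div k x := by
  rw [mem_L]
  refine forall_congr' fun P => ?_
  rw [val_le_exp_iff P hx, Finsupp.coe_zero, Pi.zero_apply, Finsupp.add_apply, div_apply hK]
  omega

theorem exists_zero {x : K} (hx : x ∉ Set.range (algebraMap k K)) :
    ∃ P : FunFld.Place k K, 0 < P.ord x := by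
  have hx0 : x ≠ 0 := fun h => hx ⟨0, by simp [h]⟩
  obtain ⟨P, hP⟩ := exists_place_lt_one hK (transcendental_of_notMem hK hx)
  exact ⟨P, (val_lt_one_iff P hx0).1 hP⟩

omit hK in
theorem inv_notMem {x : K} (hx : x ∉ Set.range (algebraMap k K)) :
    x⁻¹ ∉ Set.range (algebraMap k K) := fun ⟨c, hc⟩ => hx ⟨c⁻¹, by rw [map_inv₀, hc, inv_inv]⟩

theorem exists_pole {x : K} (hx : x ∉ Set.range (algebraMap k K)) :
    ∃ P : FunFld.Place k K, P.ord x < 0 := by
  obtain ⟨P, hP⟩ := exists_zero hK (inv_notMem hx)
  exact ⟨P, by rw [ord_inv] at hP; omega⟩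

theorem L_zero : FunFld.L (0 : FunFld.Divisor k K) = 1 := by
  refine le_antisymm (fun x hx => ?_) ?_
  · rw [Submodule.mem_one]
    by_contra hc
    have hc' : x ∉ Set.range (algebraMap k K) := hc
    obtain ⟨P, hP⟩ := exists_pole hK hc'
    have hx0 : x ≠ 0 := fun h => hc' ⟨0, by simp [h]⟩
    have := (val_le_exp_iff P hx0).1 (hx P)
    simp at this
    omega
  · intro x hx
    obtain ⟨c, rfl⟩ := Submodule.mem_one.1 hx
    exact fun P => by simpa using P.2.1 c

omit hK in
theorem L_mono {D E : FunFld.Divisor k K} (h : D ≤ E) : FunFld.L D ≤ FunFld.L E :=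
  fun _ hx P => (hx P).trans (exp_le_exp.2 (h P))

theorem exists_relDim_L (D E : FunFld.Divisor k K) (hE : 0 ≤ E) :
    ∃ d : ℤ, d ≤ E.deg ∧ RelDim (FunFld.L D) (FunFld.L (D + E)) d := by
  refine eff_induction (motive := fun E => ∃ d : ℤ, d ≤ E.deg ∧
    RelDim (FunFld.L D) (FunFld.L (D + E)) d) ?_ ?_ E hE
  · exact ⟨0, by rw [deg_zero], by simpa using RelDim.refl _⟩
  · rintro E P hE ⟨d, hd, hdim⟩
    have := finiteDimensional_residueField hK P
    obtain ⟨e, he, hdim'⟩ := relDim_step_le (A := FunFld.L (D + E))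
      (B := FunFld.L (D + (E + Finsupp.single P 1))) LinearMap.id P (D P + E P + 1) (by
        intro x hx
        have := hx P
        simp only [Finsupp.add_apply, Finsupp.single_eq_same] at this
        rwa [add_assoc]) (by
        intro x hx
        rw [mem_L, LinearMap.id_apply, add_sub_cancel_right]
        refine ⟨fun h => by simpa using h P, fun h Q => ?_⟩
        rcases eq_or_ne Q P with rfl | hQP
        · simpa using h
        · simpa [Finsupp.single_eq_of_ne hQP] using hx Q)
    refine ⟨d + e, by rw [deg_add, deg_single, one_mul]; omega,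
      RelDim.trans (L_mono (le_add_of_nonneg_right hE)) (L_mono ?_) hdim hdim'⟩
    rw [← add_assoc]; exact le_add_of_nonneg_right (Finsupp.single_nonneg.2 zero_le_one)

theorem ell_zero : FunFld.ell (0 : FunFld.Divisor k K) = 1 := by
  rw [FunFld.ell, L_zero hK, Submodule.one_eq_span, finrank_span_singleton one_ne_zero]

theorem finiteDimensional_L (D : FunFld.Divisor k K) : FiniteDimensional k (FunFld.L D) := by
  have hfin0 : FiniteDimensional k (FunFld.L (0 : FunFld.Divisor k K)) := by
    rw [L_zero hK, Submodule.one_eq_span]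
    exact Module.Finite.span_singleton k _
  obtain ⟨d, -, h⟩ := exists_relDim_L hK 0 (D ⊔ 0) le_sup_right
  rw [zero_add] at h
  have := (h.finiteDimensional_of_finite (L_mono le_sup_right)).1
  exact Submodule.finiteDimensional_of_le (L_mono (le_sup_left : D ≤ D ⊔ 0))

theorem ell_sub_le {D E : FunFld.Divisor k K} (h : D ≤ E) :
    (FunFld.ell E : ℤ) - FunFld.ell D ≤ E.deg - D.deg := by
  obtain ⟨d, hd, hdim⟩ := exists_relDim_L hK D (E - D) (sub_nonneg.2 h)
  rw [add_sub_cancel] at hdim
  rw [deg_sub] at hd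
  have := finiteDimensional_L hK D
  have := (hdim.finiteDimensional_of_finite (L_mono h)).2
  unfold FunFld.ell
  omega

theorem ell_le_deg {D : FunFld.Divisor k K} (h : 0 ≤ D) : (FunFld.ell D : ℤ) ≤ D.deg + 1 := by
  have := ell_sub_le hK h
  rw [ell_zero hK, deg_zero] at this
  omega

omit hK in
open scoped Classical in
/-- The divisor of poles of `x`. -/
noncomputable def poleDiv (x : K) : FunFld.Divisor k K :=
  (FunFld.div k x⁻¹).filter fun P => 0 < FunFld.div k x⁻¹ P

theorem poleDiv_apply (x : K) (P : FunFld.Place k K) :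
    poleDiv (k := k) x P = max 0 (-P.ord x) := by
  classical
  rw [poleDiv, Finsupp.filter_apply]
  simp only [div_apply hK, ord_inv]
  split <;> omega

theorem poleDiv_nonneg (x : K) : 0 ≤ poleDiv (k := k) x := fun P => by
  rw [poleDiv_apply hK]; exact le_max_left _ _

theorem mem_L_poleDiv (x : K) : x ∈ FunFld.L (poleDiv (k := k) x) := fun P => by
  rcases eq_or_ne x 0 with rfl | hx
  · simp
  · rw [val_le_exp_iff P hx, poleDiv_apply hK]; exact le_max_right _ _

omit hK in
theorem mul_mem_L {C D : FunFld.Divisor k K} {x y : K} (hx : x ∈ FunFld.L C)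
    (hy : y ∈ FunFld.L D) : x * y ∈ FunFld.L (C + D) := fun P => by
  rw [map_mul, Finsupp.add_apply, exp_add]
  exact mul_le_mul' (hx P) (hy P)

omit hK in
theorem pow_mem_L {D : FunFld.Divisor k K} {x : K} (hx : x ∈ FunFld.L D) (j : ℕ) :
    x ^ j ∈ FunFld.L (j • D) := by
  induction j with
  | zero => intro P; simp
  | succ j ih => rw [pow_succ, succ_nsmul]; exact mul_mem_L ih hx

open IntermediateField.algebraAdjoinAdjoin in
omit hK in
theorem linearIndependent_pow_mul {x : K} (hx : Transcendental k x) {ι : Type*} {b : ι → K}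
    (hb : LinearIndependent (IntermediateField.adjoin k ({x} : Set K)) b) (m : ℕ) :
    LinearIndependent k fun p : Fin (m + 1) × ι => x ^ (p.1 : ℕ) * b p.2 := by
  have hpow : LinearIndependent k fun j : Fin (m + 1) =>
      (⟨x ^ (j : ℕ), pow_mem (IntermediateField.mem_adjoin_simple_self k x) _⟩ :
        IntermediateField.adjoin k ({x} : Set K)) := by
    rw [Fintype.linearIndependent_iff]
    intro c hc j
    have h1 : Polynomial.aeval x (∑ j : Fin (m + 1), Polynomial.monomial (j : ℕ) (c j)) = 0 := by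
      have := congrArg Subtype.val hc
      simp only [IntermediateField.coe_sum, map_sum, Polynomial.aeval_monomial] at this ⊢
      simpa [Algebra.smul_def] using this
    have h2 := congrArg (fun p => Polynomial.coeff p (j : ℕ))
      ((transcendental_iff.1 hx) _ h1)
    simpa [Polynomial.finsetSum_coeff, Polynomial.coeff_monomial, Fin.val_inj] using h2
  exact linearIndependent_smul hpow hb

/-- `[K : k(x)] (m + 1) ≤ ℓ (m (x)_∞ + C)` for a fixed effective `C`. -/
theorem exists_bound {x : K} (hx : Transcendental k x) :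
    ∃ C : FunFld.Divisor k K, 0 ≤ C ∧ ∀ m : ℕ,
      ((Module.finrank (IntermediateField.adjoin k ({x} : Set K)) K : ℤ) * (m + 1) ≤
        FunFld.ell (m • poleDiv (k := k) x + C)) := by
  have := finiteDimensional_adjoin hK hx
  set b := Module.finBasis (IntermediateField.adjoin k ({x} : Set K)) K
  refine ⟨∑ i, poleDiv (k := k) (b i), Finset.sum_nonneg fun i _ => poleDiv_nonneg hK _,
    fun m => ?_⟩
  set C := ∑ i, poleDiv (k := k) (b i)
  have hli := linearIndependent_pow_mul hx b.linearIndependent m
  have hmem : ∀ p : Fin (m + 1) × Fin _, x ^ (p.1 : ℕ) * b p.2 ∈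
      FunFld.L (m • poleDiv (k := k) x + C) := fun p =>
    L_mono (add_le_add (nsmul_le_nsmul_left (poleDiv_nonneg hK x) (Nat.lt_succ_iff.1 p.1.2))
      (Finset.single_le_sum (fun i _ => poleDiv_nonneg hK (b i)) (Finset.mem_univ p.2)))
      (mul_mem_L (pow_mem_L (mem_L_poleDiv hK x) _) (mem_L_poleDiv hK _))
  have := finiteDimensional_L hK (m • poleDiv (k := k) x + C)
  have := (LinearIndependent.of_comp (FunFld.L (m • poleDiv (k := k) x + C)).subtype
    (v := fun p => (⟨_, hmem p⟩ : FunFld.L (m • poleDiv (k := k) x + C))) hli).fintype_card_le_finrank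
  rw [Fintype.card_prod, Fintype.card_fin, Fintype.card_fin] at this
  unfold FunFld.ell
  rw [mul_comm]
  exact_mod_cast this

theorem deg_poleDiv {x : K} (hx : Transcendental k x) :
    (poleDiv (k := k) x).deg = Module.finrank (IntermediateField.adjoin k ({x} : Set K)) K := by
  classical
  set n := Module.finrank (IntermediateField.adjoin k ({x} : Set K)) K with hn
  refine le_antisymm ?_ ?_
  · have hxi : Transcendental k x⁻¹ := fun h => hx (by simpa using h.inv)
    have h := sum_ord_mul_deg_le hK hxi (poleDiv (k := k) x).support (fun P hP => by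
      rw [Finsupp.mem_support_iff, poleDiv_apply hK] at hP
      rw [ord_inv]; omega)
    rw [adjoin_inv] at h
    refine le_trans (le_of_eq ?_) h
    refine Finset.sum_congr rfl fun P hP => ?_
    rw [Finsupp.mem_support_iff] at hP
    simp only [poleDiv_apply hK] at hP ⊢
    rw [ord_inv]
    congr 1
    omega
  · obtain ⟨C, hC, hm⟩ := exists_bound hK hx
    by_contra hlt
    rw [not_le] at hlt
    have := deg_nonneg hC
    have h1 := hm (C.deg + 1).toNat
    have h2 := ell_le_deg hK (D := (C.deg + 1).toNat • poleDiv (k := k) x + C)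
      (add_nonneg (nsmul_nonneg (poleDiv_nonneg hK x) _) hC)
    rw [deg_add] at h2
    have h3 : ∀ j : ℕ, (j • poleDiv (k := k) x).deg = j * (poleDiv (k := k) x).deg := by
      intro j
      induction j with
      | zero => simp [deg_zero]
      | succ j ih => rw [succ_nsmul, deg_add, ih]; push_cast; ring
    rw [h3] at h2
    have h4 : (((C.deg + 1).toNat : ℕ) : ℤ) = C.deg + 1 := Int.toNat_of_nonneg (by omega)
    rw [h4] at h1 h2
    have := finiteDimensional_adjoin hK hx
    have hpos : 0 < (n : ℤ) := by exact_mod_cast Module.finrank_pos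
    rw [← hn] at h1
    nlinarith

theorem div_eq_sub (x : K) :
    FunFld.div k x = poleDiv (k := k) x⁻¹ - poleDiv (k := k) x :=
  Finsupp.ext fun P => by
    simp only [Finsupp.sub_apply, poleDiv_apply hK, div_apply hK, ord_inv]; omega

theorem div_const (c : k) : FunFld.div k (algebraMap k K c) = 0 :=
  Finsupp.ext fun P => by simp [div_apply hK, ord_const]

theorem deg_div (x : K) : (FunFld.div k x).deg = 0 := by
  by_cases hx : x ∈ Set.range (algebraMap k K)
  · obtain ⟨c, rfl⟩ := hx
    rw [div_const hK, deg_zero]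
  · rw [div_eq_sub hK, deg_sub, deg_poleDiv hK (transcendental_of_notMem hK hx),
      deg_poleDiv hK (transcendental_of_notMem hK (inv_notMem hx)), adjoin_inv, sub_self]

theorem ell_eq_of_eq_add_div {D : FunFld.Divisor k K} {x : K} (hx : x ≠ 0) :
    FunFld.ell (D + FunFld.div k x) = FunFld.ell D := by
  have hmap : FunFld.L (D + FunFld.div k x) =
      (FunFld.L D).map (LinearMap.mulLeft k x⁻¹) := by
    ext y
    rw [Submodule.mem_map]
    constructor
    · intro hy
      refine ⟨x * y, fun P => ?_, by simp [inv_mul_cancel_left₀ hx]⟩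
      have := hy P
      rw [map_mul, val_eq_exp P hx]
      refine (mul_le_mul' le_rfl this).trans (le_of_eq ?_)
      rw [← exp_add, Finsupp.add_apply, div_apply hK]
      congr 1; ring
    · rintro ⟨z, hz, rfl⟩ P
      rw [LinearMap.mulLeft_apply, map_mul, map_inv₀, val_eq_exp P hx, ← exp_neg, neg_neg]
      refine (mul_le_mul' le_rfl (hz P)).trans (le_of_eq ?_)
      rw [← exp_add, Finsupp.add_apply, div_apply hK]
      congr 1; ring
  have hinj : Function.Injective (LinearMap.mulLeft k x⁻¹ : K →ₗ[k] K) :=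
    mul_right_injective₀ (inv_ne_zero hx)
  unfold FunFld.ell
  rw [hmap]
  exact ((FunFld.L D).equivMapOfInjective _ hinj).finrank_eq.symm

theorem exists_effective {D : FunFld.Divisor k K} (h : 0 < FunFld.ell D) :
    ∃ x : K, x ≠ 0 ∧ 0 ≤ D + FunFld.div k x := by
  have : FunFld.L D ≠ ⊥ := fun hb => by rw [FunFld.ell, hb, finrank_bot] at h; omega
  obtain ⟨x, hx, hx0⟩ := Submodule.exists_mem_ne_zero_of_ne_bot this
  exact ⟨x, hx0, (mem_L_iff_div hK hx0).1 hx⟩

theorem L_eq_bot_of_deg_neg {D : FunFld.Divisor k K} (h : D.deg < 0) : FunFld.L D = ⊥ := by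
  rw [Submodule.eq_bot_iff]
  intro x hx
  by_contra hx0
  have := deg_nonneg ((mem_L_iff_div hK hx0).1 hx)
  rw [deg_add, deg_div hK] at this
  omega

end Groth.Agent.H23FunFld
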