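import Groth.Agent.H23FunFld.Degree
import Mathlib.LinearAlgebra.Dual.Lemmas

/-! Riemann's inequality, repartitions and the dimension of `WD`. -/

set_option autoImplicit false

namespace Groth.Agent.H23FunFld

open WithZero

variable {k K : Type*} [Field k] [Field K] [Algebra k K]

theorem AD_mono {D E : FunFld.Divisor k K} (h : D ≤ E) : FunFld.AD D ≤ FunFld.AD E :=
  fun _ ha P => (ha P).trans (exp_le_exp.2 (h P))

theorem AD_sup (D E : FunFld.Divisor k K) : FunFld.AD (D ⊔ E) = FunFld.AD D ⊔ FunFld.AD E := by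
  refine le_antisymm (fun a ha => ?_) (sup_le (AD_mono le_sup_left) (AD_mono le_sup_right))
  classical
  rw [Submodule.mem_sup]
  refine ⟨fun P => if E P ≤ D P then a P else 0, fun P => ?_,
    fun P => if E P ≤ D P then 0 else a P, fun P => ?_, ?_⟩
  · have := ha P
    rw [Finsupp.sup_apply] at this
    dsimp only
    split
    · rename_i h
      rwa [sup_eq_left.2 h] at this
    · simp
  · have := ha P
    rw [Finsupp.sup_apply] at this
    dsimp only
    split
    · simp
    · rename_i h
      rwa [sup_eq_right.2 (le_of_not_ge h)] at this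
  · funext P
    simp only [Pi.add_apply]
    split <;> simp

theorem AD_le_adele (D : FunFld.Divisor k K) : FunFld.AD D ≤ FunFld.adele k K := by
  intro a ha
  change ∀ᶠ P in Filter.cofinite, _
  rw [Filter.eventually_cofinite]
  refine D.support.finite_toSet.subset fun P hP => ?_
  rw [Finset.mem_coe, Finsupp.mem_support_iff]
  intro h0
  exact hP (by simpa [h0] using ha P)

theorem exists_mem_AD {a : FunFld.Place k K → K} (ha : a ∈ FunFld.adele k K) :
    ∃ D : FunFld.Divisor k K, 0 ≤ D ∧ a ∈ FunFld.AD D := by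
  classical
  change ∀ᶠ P in Filter.cofinite, _ at ha
  rw [Filter.eventually_cofinite] at ha
  refine ⟨Finsupp.indicator ha.toFinset fun P _ => max 0 (log (P.1 (a P))), fun P => ?_, fun P => ?_⟩
  · simp only [Finsupp.coe_zero, Pi.zero_apply, Finsupp.indicator_apply]
    split
    · exact le_max_left _ _
    · exact le_rfl
  · by_cases hP : P ∈ ha.toFinset
    · rw [Finsupp.indicator_of_mem hP]
      exact le_exp_log.trans (exp_le_exp.2 (le_max_right _ _))
    · rw [Finsupp.indicator_of_notMem hP, exp_zero]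
      simpa using hP

theorem AD_inf_diag (D : FunFld.Divisor k K) :
    FunFld.AD D ⊓ LinearMap.range (FunFld.diag k K) = (FunFld.L D).map (FunFld.diag k K) := by
  ext a
  simp only [Submodule.mem_inf, LinearMap.mem_range, Submodule.mem_map]
  constructor
  · rintro ⟨ha, x, rfl⟩
    exact ⟨x, fun P => ha P, rfl⟩
  · rintro ⟨x, hx, rfl⟩
    exact ⟨fun P => hx P, x, rfl⟩

variable (hK : FunFld.IsFunctionField k K)
include hK

theorem diag_injective : Function.Injective (FunFld.diag k K) := fun x y h => by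
  obtain ⟨P⟩ := nonempty_place hK
  exact congrFun h P

theorem relDim_AD_add (D E : FunFld.Divisor k K) (hE : 0 ≤ E) :
    RelDim (FunFld.AD D) (FunFld.AD (D + E)) E.deg := by
  classical
  refine eff_induction (motive := fun E => RelDim (FunFld.AD D) (FunFld.AD (D + E)) E.deg)
    ?_ ?_ E hE
  · simpa [deg_zero] using RelDim.refl _
  · intro E P hE ih
    have := finiteDimensional_residueField hK P
    rw [deg_add, deg_single, one_mul]
    refine RelDim.trans (AD_mono (le_add_of_nonneg_right hE)) (AD_mono ?_) ih ?_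
    · rw [← add_assoc]; exact le_add_of_nonneg_right (Finsupp.single_nonneg.2 zero_le_one)
    refine relDim_step (LinearMap.proj P) P (D P + E P + 1) ?_ ?_ ?_
    · intro a ha
      have := ha P
      simp only [Finsupp.add_apply, Finsupp.single_eq_same] at this
      rwa [add_assoc]
    · intro a ha
      rw [LinearMap.proj_apply, add_sub_cancel_right]
      refine ⟨fun h => by simpa using h P, fun h Q => ?_⟩
      rcases eq_or_ne Q P with rfl | hQP
      · simpa using h
      · simpa [Finsupp.single_eq_of_ne hQP] using ha Q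
    · intro a ha
      refine ⟨Pi.single P a, fun Q => ?_, by simp⟩
      rcases eq_or_ne Q P with rfl | hQP
      · simpa [add_assoc] using ha
      · simp [Pi.single_eq_of_ne hQP]

theorem relDim_AD {D E : FunFld.Divisor k K} (h : D ≤ E) :
    RelDim (FunFld.AD D) (FunFld.AD E) (E.deg - D.deg) := by
  have := relDim_AD_add hK D (E - D) (sub_nonneg.2 h)
  rwa [add_sub_cancel, deg_sub] at this

omit hK in
/-- `φ(D) = deg D + 1 - ℓ(D)`. -/
noncomputable def phi (D : FunFld.Divisor k K) : ℤ := D.deg + 1 - FunFld.ell D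

theorem phi_mono {D E : FunFld.Divisor k K} (h : D ≤ E) : phi D ≤ phi E := by
  have := ell_sub_le hK h
  unfold phi
  omega

theorem phi_add_div {D : FunFld.Divisor k K} {x : K} (hx : x ≠ 0) :
    phi (D + FunFld.div k x) = phi D := by
  unfold phi
  rw [ell_eq_of_eq_add_div hK hx, deg_add, deg_div hK, add_zero]

theorem phi_zero : phi (0 : FunFld.Divisor k K) = 0 := by
  rw [phi, deg_zero, ell_zero hK]; norm_num

omit hK in
theorem ell_ge_of_bound (γ : ℤ) (hγ : ∀ D : FunFld.Divisor k K, phi D ≤ γ)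
    (D : FunFld.Divisor k K) : D.deg + 1 - γ ≤ FunFld.ell D := by
  have := hγ D
  unfold phi at this
  omega

omit hK in
theorem deg_nsmul (j : ℕ) (D : FunFld.Divisor k K) : (j • D).deg = j * D.deg := by
  induction j with
  | zero => simp [deg_zero]
  | succ j ih => rw [succ_nsmul, deg_add, ih]; push_cast; ring

theorem phi_le_of_transcendental {x : K} (hx : Transcendental k x) :
    ∃ C : FunFld.Divisor k K, 0 ≤ C ∧ (∀ m : ℕ,
      ((Module.finrank (IntermediateField.adjoin k ({x} : Set K)) K : ℤ) * (m + 1) ≤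
        FunFld.ell (m • poleDiv (k := k) x + C))) ∧
      ∀ D : FunFld.Divisor k K,
        phi D ≤ C.deg + 1 - Module.finrank (IntermediateField.adjoin k ({x} : Set K)) K := by
  obtain ⟨C, hC, hm⟩ := exists_bound hK hx
  refine ⟨C, hC, hm, fun D => ?_⟩
  set n := Module.finrank (IntermediateField.adjoin k ({x} : Set K)) K with hn
  have := finiteDimensional_adjoin hK hx
  have hn0 : (0 : ℤ) < n := by exact_mod_cast Module.finrank_pos
  have hB : (poleDiv (k := k) x).deg = n := deg_poleDiv hK hx
  have hell : ∀ m : ℕ, (n : ℤ) * (m + 1) - C.deg ≤ FunFld.ell (m • poleDiv (k := k) x) := by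
    intro m
    have h1 := hm m
    have h2 := ell_sub_le hK (D := m • poleDiv (k := k) x) (E := m • poleDiv (k := k) x + C)
      (le_add_of_nonneg_right hC)
    rw [deg_add] at h2
    omega
  set D' := D ⊔ 0
  set m := (C.deg + D'.deg).toNat + 1
  have h3 := ell_sub_le hK (D := m • poleDiv (k := k) x - D') (E := m • poleDiv (k := k) x)
    (sub_le_self _ (le_sup_right))
  rw [deg_sub] at h3
  have h4 := hell m
  have h5 : C.deg + D'.deg < n * ((m : ℤ) + 1) := by
    have : C.deg + D'.deg ≤ (m : ℤ) := by omega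
    nlinarith
  obtain ⟨z, hz, hz'⟩ := exists_effective hK (D := m • poleDiv (k := k) x - D') (by omega)
  have h6 : D' + FunFld.div k z⁻¹ ≤ m • poleDiv (k := k) x := by
    rw [div_inv hK, ← sub_nonneg]
    exact hz'.trans_eq (by abel)
  calc phi D ≤ phi D' := phi_mono hK le_sup_left
    _ = phi (D' + FunFld.div k z⁻¹) := (phi_add_div hK (inv_ne_zero hz)).symm
    _ ≤ phi (m • poleDiv (k := k) x) := phi_mono hK h6
    _ ≤ _ := by
      rw [phi, deg_nsmul, hB]
      linarith [hell m]

theorem exists_phi_bound : ∃ γ : ℤ, ∀ D : FunFld.Divisor k K, phi D ≤ γ := by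
  obtain ⟨x, hx, -⟩ := hK.1
  obtain ⟨C, -, -, h⟩ := phi_le_of_transcendental hK hx
  exact ⟨_, h⟩

theorem genus_spec : (∀ D : FunFld.Divisor k K, phi D ≤ FunFld.genus k K) ∧
    ∃ D : FunFld.Divisor k K, phi D = FunFld.genus k K := by
  obtain ⟨γ, hγ⟩ := exists_phi_bound hK
  set S := Set.range fun D : FunFld.Divisor k K => (D.deg + 1 - (FunFld.ell D : ℤ)).toNat
  have hne : S.Nonempty := ⟨_, 0, rfl⟩
  have hbdd : BddAbove S := ⟨γ.toNat, by
    rintro n ⟨D, rfl⟩
    exact Int.toNat_le_toNat (hγ D)⟩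
  have hg : FunFld.genus k K = sSup S := rfl
  have h1 : ∀ D : FunFld.Divisor k K, phi D ≤ FunFld.genus k K := fun D => by
    have := le_csSup hbdd (show (phi D).toNat ∈ S from ⟨D, rfl⟩)
    rw [hg]
    omega
  refine ⟨h1, ?_⟩
  obtain ⟨D, hD⟩ := Nat.sSup_mem hne hbdd
  rw [← hg] at hD
  replace hD : (phi D).toNat = FunFld.genus k K := hD
  rcases le_or_gt 0 (phi D) with h | h
  · exact ⟨D, by omega⟩
  · exact ⟨0, by rw [phi_zero hK]; omega⟩

theorem phi_le_genus (D : FunFld.Divisor k K) : phi D ≤ FunFld.genus k K :=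
  (genus_spec hK).1 D

theorem ell_ge (D : FunFld.Divisor k K) : D.deg + 1 - FunFld.genus k K ≤ FunFld.ell D :=
  ell_ge_of_bound _ (phi_le_genus hK) D

theorem exists_large_deg : ∃ N : ℤ, ∀ D : FunFld.Divisor k K, N ≤ D.deg →
    phi D = FunFld.genus k K := by
  obtain ⟨D₀, hD₀⟩ := (genus_spec hK).2
  refine ⟨D₀.deg + FunFld.genus k K, fun D hD => le_antisymm (phi_le_genus hK D) ?_⟩
  have h := ell_ge hK (D - D₀)
  rw [deg_sub] at h
  obtain ⟨z, hz, hz'⟩ := exists_effective hK (D := D - D₀) (by omega)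
  rw [← hD₀, ← phi_add_div hK (D := D) hz]
  refine phi_mono hK (sub_nonneg.1 (hz'.trans_eq (by abel)))

theorem exists_ge_phi_eq (D : FunFld.Divisor k K) :
    ∃ E, D ≤ E ∧ phi E = FunFld.genus k K := by
  obtain ⟨D₀, hD₀⟩ := (genus_spec hK).2
  exact ⟨D ⊔ D₀, le_sup_left,
    le_antisymm (phi_le_genus hK _) (hD₀ ▸ phi_mono hK le_sup_right)⟩

theorem relDim_ADK {D E : FunFld.Divisor k K} (h : D ≤ E) :
    RelDim (FunFld.AD D ⊔ LinearMap.range (FunFld.diag k K))
      (FunFld.AD E ⊔ LinearMap.range (FunFld.diag k K)) (phi E - phi D) := by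
  have hfE := finiteDimensional_L hK E
  have hfD := finiteDimensional_L hK D
  obtain ⟨d, -, hL⟩ := exists_relDim_L hK D (E - D) (sub_nonneg.2 h)
  rw [add_sub_cancel] at hL
  have h2 := (hL.finiteDimensional_of_finite (L_mono h)).2
  have hinj := diag_injective hK
  have hL' : RelDim (FunFld.AD D ⊓ LinearMap.range (FunFld.diag k K))
      (FunFld.AD E ⊓ LinearMap.range (FunFld.diag k K)) d := by
    rw [AD_inf_diag, AD_inf_diag]
    let e := Submodule.Quotient.equiv ((FunFld.L D).comap (FunFld.L E).subtype)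
      (((FunFld.L D).map (FunFld.diag k K)).comap ((FunFld.L E).map (FunFld.diag k K)).subtype)
      ((FunFld.L E).equivMapOfInjective _ hinj) (by
        ext ⟨a, ha⟩
        obtain ⟨x, hx, rfl⟩ := ha
        simp only [Submodule.mem_map, Submodule.mem_comap, Submodule.coe_subtype]
        constructor
        · rintro ⟨y, hy, h⟩
          exact ⟨y, hy, congrArg Subtype.val h⟩
        · rintro ⟨y, hy, h⟩
          refine ⟨⟨x, hx⟩, ?_, rfl⟩
          exact hinj h ▸ hy)
    have := hL.1
    exact ⟨e.finiteDimensional, by rw [← e.finrank_eq]; exact hL.2⟩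
  have := RelDim.sup_of_inf (AD_mono h) (relDim_AD hK h) hL'
  have e : E.deg - D.deg - d = phi E - phi D := by
    unfold phi FunFld.ell
    omega
  rwa [e] at this

theorem diag_le_adele : LinearMap.range (FunFld.diag k K) ≤ FunFld.adele k K := by
  rintro _ ⟨x, rfl⟩
  exact AD_le_adele _ fun P => mem_L_poleDiv hK x P

theorem adele_eq {E : FunFld.Divisor k K} (hE : phi E = FunFld.genus k K) :
    FunFld.AD E ⊔ LinearMap.range (FunFld.diag k K) = FunFld.adele k K := by
  refine le_antisymm (sup_le (AD_le_adele E) (diag_le_adele hK)) fun a ha => ?_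
  obtain ⟨D, -, hD⟩ := exists_mem_AD ha
  have h := relDim_ADK hK (le_sup_left : E ≤ E ⊔ D)
  have h0 : phi (E ⊔ D) - phi E = 0 := by
    have := phi_mono hK (le_sup_left : E ≤ E ⊔ D)
    have := phi_le_genus hK (E ⊔ D)
    omega
  rw [h0] at h
  exact h.le_of_eq_zero (Submodule.mem_sup_left (AD_mono le_sup_right hD))

theorem relDim_adele (D : FunFld.Divisor k K) :
    RelDim (FunFld.AD D ⊔ LinearMap.range (FunFld.diag k K)) (FunFld.adele k K)
      (FunFld.genus k K - phi D) := by
  obtain ⟨E, hDE, hE⟩ := exists_ge_phi_eq hK D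
  have := relDim_ADK hK hDE
  rwa [adele_eq hK hE, hE] at this

theorem finrank_quotient_ADK (D : FunFld.Divisor k K) :
    FiniteDimensional k (↥(FunFld.adele k K) ⧸ FunFld.ADK D) ∧
      (Module.finrank k (↥(FunFld.adele k K) ⧸ FunFld.ADK D) : ℤ) =
        FunFld.genus k K - phi D := relDim_adele hK D

theorem finrank_WD (D : FunFld.Divisor k K) :
    FiniteDimensional k (FunFld.WD D) ∧
      (Module.finrank k (FunFld.WD D) : ℤ) = FunFld.genus k K - phi D := by
  obtain ⟨hf, hr⟩ := finrank_quotient_ADK hK D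
  let e := (FunFld.ADK D).dualQuotEquivDualAnnihilator
  exact ⟨e.finiteDimensional, by
    rw [show FunFld.WD D = (FunFld.ADK D).dualAnnihilator from rfl, ← e.finrank_eq,
      Subspace.dual_finrank_eq]
    exact hr⟩

end Groth.Agent.H23FunFld
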