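import Groth.Agent.H23FunFld.Riemann

/-! Weil differentials and the Riemann–Roch theorem. -/

set_option autoImplicit false

namespace Groth.Agent.H23FunFld

open WithZero

variable {k K : Type*} [Field k] [Field K] [Algebra k K]

theorem mem_WD_iff {D : FunFld.Divisor k K} {ω : Module.Dual k (FunFld.adele k K)} :
    ω ∈ FunFld.WD D ↔ ∀ a : FunFld.adele k K,
      (a : FunFld.Place k K → K) ∈ FunFld.AD D ⊔ LinearMap.range (FunFld.diag k K) → ω a = 0 :=
  Submodule.mem_dualAnnihilator ω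

theorem WD_anti {D E : FunFld.Divisor k K} (h : D ≤ E) : FunFld.WD E ≤ FunFld.WD D :=
  fun _ hω => mem_WD_iff.2 fun a ha => mem_WD_iff.1 hω a (sup_le_sup_right (AD_mono h) _ ha)

theorem mulW_apply {x : K} (hx : ∀ a ∈ FunFld.adele k K, x • a ∈ FunFld.adele k K)
    (ω : Module.Dual k (FunFld.adele k K)) (a : FunFld.adele k K) :
    FunFld.mulW x hx ω a = ω ⟨x • (a : FunFld.Place k K → K), hx a a.2⟩ := rfl

variable (hK : FunFld.IsFunctionField k K)
include hK

theorem smul_mem_AD {D : FunFld.Divisor k K} {x : K} {a : FunFld.Place k K → K}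
    (ha : a ∈ FunFld.AD D) : x • a ∈ FunFld.AD (D - FunFld.div k x) := by
  intro P
  rw [Pi.smul_apply, smul_eq_mul, map_mul]
  rcases eq_or_ne x 0 with rfl | hx
  · simp
  rw [val_eq_exp P hx, Finsupp.sub_apply, div_apply hK, sub_eq_neg_add, exp_add]
  exact mul_le_mul' le_rfl (ha P)

theorem smul_mem_adele {x : K} {a : FunFld.Place k K → K} (ha : a ∈ FunFld.adele k K) :
    x • a ∈ FunFld.adele k K := by
  obtain ⟨D, -, hD⟩ := exists_mem_AD ha
  exact AD_le_adele _ (smul_mem_AD hK hD)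

theorem smul_mem_ADK {D : FunFld.Divisor k K} {x : K} {a : FunFld.Place k K → K}
    (ha : a ∈ FunFld.AD D ⊔ LinearMap.range (FunFld.diag k K)) :
    x • a ∈ FunFld.AD (D - FunFld.div k x) ⊔ LinearMap.range (FunFld.diag k K) := by
  rw [Submodule.mem_sup] at ha ⊢
  obtain ⟨b, hb, _, ⟨y, rfl⟩, rfl⟩ := ha
  exact ⟨_, smul_mem_AD hK hb, _, ⟨x * y, rfl⟩, funext fun P => (mul_add x (b P) y).symm⟩

theorem mulW_mem_iff {x : K} (h0 : x ≠ 0)
    (hx : ∀ a ∈ FunFld.adele k K, x • a ∈ FunFld.adele k K)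
    (ω : Module.Dual k (FunFld.adele k K)) (E : FunFld.Divisor k K) :
    FunFld.mulW x hx ω ∈ FunFld.WD E ↔ ω ∈ FunFld.WD (E - FunFld.div k x) := by
  constructor
  · intro h
    rw [mem_WD_iff] at h ⊢
    intro a ha
    have h1 := h ⟨x⁻¹ • (a : FunFld.Place k K → K), smul_mem_adele hK a.2⟩ (by
      have := smul_mem_ADK hK (x := x⁻¹) ha
      rwa [div_inv hK, sub_neg_eq_add, sub_add_cancel] at this)
    rw [mulW_apply] at h1
    convert h1 using 2
    apply Subtype.ext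
    funext P
    change (a : FunFld.Place k K → K) P = x • (x⁻¹ • (a : FunFld.Place k K → K) P)
    rw [smul_smul, mul_inv_cancel₀ h0, one_smul]
  · intro h
    rw [mem_WD_iff] at h ⊢
    intro a ha
    rw [mulW_apply]
    exact h _ (smul_mem_ADK hK ha)

theorem mulW_injective_of_ne_zero {ω : Module.Dual k (FunFld.adele k K)} (hω : ω ≠ 0) {x : K}
    (hx : ∀ a ∈ FunFld.adele k K, x • a ∈ FunFld.adele k K) (h : FunFld.mulW x hx ω = 0) :
    x = 0 := by
  by_contra hx0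
  refine hω (LinearMap.ext fun a => ?_)
  have h1 : FunFld.mulW x hx ω ⟨x⁻¹ • (a : FunFld.Place k K → K), smul_mem_adele hK a.2⟩ = 0 := by
    rw [h]; rfl
  rw [mulW_apply] at h1
  rw [LinearMap.zero_apply, ← h1]
  congr 1
  apply Subtype.ext
  funext P
  change (a : FunFld.Place k K → K) P = x • (x⁻¹ • (a : FunFld.Place k K → K) P)
  rw [smul_smul, mul_inv_cancel₀ hx0, one_smul]

omit hK in
/-- The linear map `x ↦ x ω`. -/
noncomputable def mulWMap (hK : FunFld.IsFunctionField k K)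
    (ω : Module.Dual k (FunFld.adele k K)) : K →ₗ[k] Module.Dual k (FunFld.adele k K) where
  toFun x := FunFld.mulW x (fun _ ha => smul_mem_adele hK ha) ω
  map_add' x y := LinearMap.ext fun a => by
    rw [LinearMap.add_apply, mulW_apply, mulW_apply, mulW_apply, ← map_add]
    congr 1
    exact Subtype.ext (add_smul x y _)
  map_smul' c x := LinearMap.ext fun a => by
    rw [LinearMap.smul_apply, RingHom.id_apply, mulW_apply, mulW_apply, ← map_smul]
    congr 1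
    exact Subtype.ext (smul_assoc c x (a : FunFld.Place k K → K))

theorem mulWMap_injective {ω : Module.Dual k (FunFld.adele k K)} (hω : ω ≠ 0) :
    Function.Injective (mulWMap hK ω) := by
  rw [← LinearMap.ker_eq_bot, Submodule.eq_bot_iff]
  exact fun x hx => mulW_injective_of_ne_zero hK hω (fun _ ha => smul_mem_adele hK ha) hx

theorem WD_eq_bot {D : FunFld.Divisor k K} (h : phi D = FunFld.genus k K) :
    FunFld.WD D = ⊥ := by
  obtain ⟨hf, hr⟩ := finrank_WD hK D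
  rw [h, sub_self] at hr
  exact Submodule.finrank_eq_zero.1 (by exact_mod_cast hr)

theorem exists_isDivOf {ω : Module.Dual k (FunFld.adele k K)} (hω : FunFld.IsWeil ω)
    (h0 : ω ≠ 0) : ∃ C : FunFld.Divisor k K, FunFld.IsDivOf ω C := by
  obtain ⟨D, hD⟩ := hω
  obtain ⟨N, hN⟩ := exists_large_deg hK
  have hbound : ∀ E, ω ∈ FunFld.WD E → E.deg ≤ N := by
    intro E hE
    by_contra hlt
    rw [not_le] at hlt
    rw [WD_eq_bot hK (hN E hlt.le)] at hE
    exact h0 hE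
  obtain ⟨d, hd, hmax⟩ := Int.exists_greatest_of_bdd
    (P := fun d => ∃ E, ω ∈ FunFld.WD E ∧ E.deg = d)
    ⟨N, fun z ⟨E, hE, hz⟩ => hz ▸ hbound E hE⟩ ⟨D.deg, D, hD, rfl⟩
  obtain ⟨C, hC, rfl⟩ := hd
  refine ⟨C, fun E => ⟨fun hE => ?_, fun hle => WD_anti hle hC⟩⟩
  have hsup : ω ∈ FunFld.WD (C ⊔ E) := by
    rw [mem_WD_iff]
    intro a ha
    rw [AD_sup, Submodule.mem_sup] at ha
    obtain ⟨b, hb, c, hc, hbc⟩ := ha
    obtain ⟨b₁, hb₁, b₂, hb₂, rfl⟩ := Submodule.mem_sup.1 hb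
    have hb₁' : b₁ ∈ FunFld.adele k K := AD_le_adele _ hb₁
    have hb₂' : b₂ + c ∈ FunFld.adele k K :=
      add_mem (AD_le_adele _ hb₂) (diag_le_adele hK hc)
    have e : a = ⟨b₁, hb₁'⟩ + ⟨b₂ + c, hb₂'⟩ := Subtype.ext (hbc.symm.trans (add_assoc _ _ _))
    rw [e, map_add, mem_WD_iff.1 hC _ (Submodule.mem_sup_left hb₁),
      mem_WD_iff.1 hE _ (Submodule.add_mem_sup hb₂ hc), add_zero]
  have h1 := hmax _ ⟨_, hsup, rfl⟩
  have h2 : C ≤ C ⊔ E := le_sup_left
  have h3 := deg_nonneg_lt hK (sub_nonneg.2 h2) (by rw [deg_sub]; omega)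
  rw [sub_eq_zero] at h3
  exact h3 ▸ le_sup_right

theorem isDivOf_mulW {x : K} (h0 : x ≠ 0)
    (hx : ∀ a ∈ FunFld.adele k K, x • a ∈ FunFld.adele k K)
    {ω : Module.Dual k (FunFld.adele k K)} {C : FunFld.Divisor k K} (hω : FunFld.IsDivOf ω C) :
    FunFld.IsDivOf (FunFld.mulW x hx ω) (C + FunFld.div k x) := fun E => by
  rw [mulW_mem_iff hK h0, hω, sub_le_iff_le_add]

theorem IsDivOf_ne_zero {ω : Module.Dual k (FunFld.adele k K)} {C : FunFld.Divisor k K}
    (hω : FunFld.IsDivOf ω C) : ω ≠ 0 := by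
  intro h
  obtain ⟨P⟩ := nonempty_place hK
  have := (hω (C + Finsupp.single P 1)).1 (h ▸ Submodule.zero_mem _) P
  simp at this

omit hK in
theorem IsDivOf_isWeil {ω : Module.Dual k (FunFld.adele k K)} {C : FunFld.Divisor k K}
    (hω : FunFld.IsDivOf ω C) : FunFld.IsWeil ω := ⟨C, (hω C).2 le_rfl⟩

theorem mulWMap_mem {ω : Module.Dual k (FunFld.adele k K)} {C D : FunFld.Divisor k K}
    (hω : ω ∈ FunFld.WD C) {x : K} (hx : x ∈ FunFld.L (C - D)) :
    mulWMap hK ω x ∈ FunFld.WD D := by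
  rcases eq_or_ne x 0 with rfl | h0
  · rw [map_zero]; exact Submodule.zero_mem _
  · refine (mulW_mem_iff hK h0 (fun _ ha => smul_mem_adele hK ha) ω D).2 (WD_anti ?_ hω)
    have := (mem_L_iff_div hK h0).1 hx
    rw [← sub_nonneg]
    exact this.trans_eq (by abel)

theorem exists_mulW_eq {ω₁ ω₂ : Module.Dual k (FunFld.adele k K)} (h₁ : FunFld.IsWeil ω₁)
    (h0 : ω₁ ≠ 0) (h₂ : FunFld.IsWeil ω₂) : ∃ x : K, mulWMap hK ω₁ x = ω₂ := by
  rcases eq_or_ne ω₂ 0 with rfl | h20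
  · exact ⟨0, map_zero _⟩
  obtain ⟨C₁, hC₁⟩ := exists_isDivOf hK h₁ h0
  obtain ⟨C₂, hC₂⟩ := exists_isDivOf hK h₂ h20
  obtain ⟨P⟩ := nonempty_place hK
  set g : ℤ := (FunFld.genus k K : ℤ) with hg
  set n : ℕ := (3 * g - C₁.deg - C₂.deg).toNat + 1 with hn
  set D : FunFld.Divisor k K := Finsupp.single P (-(n : ℤ)) with hD
  have hdegD : D.deg ≤ -(n : ℤ) := by
    have := deg_pos hK P
    rw [hD, deg_single]
    nlinarith
  have hDneg : D.deg < 0 := by omega
  have hlD : FunFld.ell D = 0 := by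
    rw [FunFld.ell, L_eq_bot_of_deg_neg hK hDneg, finrank_bot]
  obtain ⟨hf, hr⟩ := finrank_WD hK D
  rw [phi, hlD] at hr
  have e₁ := ell_ge hK (C₁ - D)
  have e₂ := ell_ge hK (C₂ - D)
  rw [deg_sub] at e₁ e₂
  set V₁ := (FunFld.L (C₁ - D)).map (mulWMap hK ω₁)
  set V₂ := (FunFld.L (C₂ - D)).map (mulWMap hK ω₂)
  have d₁ : Module.finrank k V₁ = FunFld.ell (C₁ - D) :=
    ((FunFld.L (C₁ - D)).equivMapOfInjective _ (mulWMap_injective hK h0)).finrank_eq.symm
  have d₂ : Module.finrank k V₂ = FunFld.ell (C₂ - D) :=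
    ((FunFld.L (C₂ - D)).equivMapOfInjective _ (mulWMap_injective hK h20)).finrank_eq.symm
  have s₁ : V₁ ≤ FunFld.WD D := by
    rintro _ ⟨x, hx, rfl⟩; exact mulWMap_mem hK ((hC₁ C₁).2 le_rfl) hx
  have s₂ : V₂ ≤ FunFld.WD D := by
    rintro _ ⟨x, hx, rfl⟩; exact mulWMap_mem hK ((hC₂ C₂).2 le_rfl) hx
  have : FiniteDimensional k V₁ := Submodule.finiteDimensional_of_le s₁
  have : FiniteDimensional k V₂ := Submodule.finiteDimensional_of_le s₂
  have hinf : V₁ ⊓ V₂ ≠ ⊥ := by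
    intro h
    have h1 := Submodule.finrank_sup_add_finrank_inf_eq V₁ V₂
    rw [h, finrank_bot, add_zero, d₁, d₂] at h1
    have h2 := Submodule.finrank_mono (sup_le s₁ s₂)
    rw [h1] at h2
    have h3 : ((FunFld.ell (C₁ - D) + FunFld.ell (C₂ - D) : ℕ) : ℤ) ≤
        (Module.finrank k (FunFld.WD D) : ℤ) := Int.ofNat_le.2 h2
    push_cast at h3
    omega
  obtain ⟨v, hv, hv0⟩ := Submodule.exists_mem_ne_zero_of_ne_bot hinf
  obtain ⟨⟨x₁, -, hx₁⟩, x₂, -, hx₂⟩ := Submodule.mem_inf.1 hv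
  have hx₂0 : x₂ ≠ 0 := fun h => hv0 (by rw [← hx₂, h, map_zero])
  refine ⟨x₁ / x₂, LinearMap.ext fun a => ?_⟩
  have key := LinearMap.congr_fun (hx₁.trans hx₂.symm)
    ⟨x₂⁻¹ • (a : FunFld.Place k K → K), smul_mem_adele hK a.2⟩
  change ω₁ _ = _
  have e1 : mulWMap hK ω₂ x₂ ⟨x₂⁻¹ • (a : FunFld.Place k K → K), smul_mem_adele hK a.2⟩ = ω₂ a := by
    change ω₂ _ = ω₂ a
    congr 1
    apply Subtype.ext
    funext P
    change x₂ • (x₂⁻¹ • (a : FunFld.Place k K → K) P) = (a : FunFld.Place k K → K) P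
    rw [smul_smul, mul_inv_cancel₀ hx₂0, one_smul]
  rw [← e1, ← key]
  change ω₁ _ = ω₁ _
  congr 1
  apply Subtype.ext
  funext P
  change (x₁ / x₂) • (a : FunFld.Place k K → K) P = x₁ • (x₂⁻¹ • (a : FunFld.Place k K → K) P)
  rw [smul_smul, div_eq_mul_inv]

theorem mulW_L_onto_WD {ω : Module.Dual k (FunFld.adele k K)} {C : FunFld.Divisor k K}
    (hω : FunFld.IsDivOf ω C) (D : FunFld.Divisor k K) :
    (FunFld.L (C - D)).map (mulWMap hK ω) = FunFld.WD D := by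
  refine le_antisymm ?_ fun ω' hω' => ?_
  · rintro _ ⟨x, hx, rfl⟩
    exact mulWMap_mem hK ((hω C).2 le_rfl) hx
  obtain ⟨x, hx⟩ := exists_mulW_eq hK (IsDivOf_isWeil hω) (IsDivOf_ne_zero hK hω) ⟨D, hω'⟩
  refine ⟨x, ?_, hx⟩
  rcases eq_or_ne x 0 with rfl | h0
  · exact Submodule.zero_mem _
  rw [← hx] at hω'
  have := (isDivOf_mulW hK h0 (fun _ ha => smul_mem_adele hK ha) hω D).1 hω'
  refine (mem_L_iff_div hK h0).2 ?_
  exact (sub_nonneg.2 this).trans_eq (by abel)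

theorem riemann_roch {C : FunFld.Divisor k K} (hC : FunFld.IsCanonical k K C)
    (D : FunFld.Divisor k K) :
    (FunFld.ell D : ℤ) = D.deg + 1 - FunFld.genus k K + FunFld.ell (C - D) := by
  obtain ⟨ω, h0, hω⟩ := hC
  have h1 := mulW_L_onto_WD hK hω D
  obtain ⟨hf, hr⟩ := finrank_WD hK D
  have h2 : Module.finrank k (FunFld.WD D) = FunFld.ell (C - D) := by
    rw [← h1]
    exact ((FunFld.L (C - D)).equivMapOfInjective _ (mulWMap_injective hK h0)).finrank_eq.symm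
  rw [h2, phi] at hr
  omega

theorem exists_isCanonical : ∃ C : FunFld.Divisor k K, FunFld.IsCanonical k K C := by
  obtain ⟨P⟩ := nonempty_place hK
  set D : FunFld.Divisor k K := Finsupp.single P (-2) with hD
  have hdeg : D.deg ≤ -2 := by
    have := deg_pos hK P
    rw [hD, deg_single]; omega
  obtain ⟨hf, hr⟩ := finrank_WD hK D
  rw [phi, show FunFld.ell D = 0 by
    rw [FunFld.ell, L_eq_bot_of_deg_neg hK (by omega), finrank_bot]] at hr
  have hne : FunFld.WD D ≠ ⊥ := fun h => by rw [h, finrank_bot] at hr; omega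
  obtain ⟨ω, hω, h0⟩ := Submodule.exists_mem_ne_zero_of_ne_bot hne
  obtain ⟨C, hC⟩ := exists_isDivOf hK ⟨D, hω⟩ h0
  exact ⟨C, ω, h0, hC⟩

theorem canonical_ell_deg {C : FunFld.Divisor k K} (hC : FunFld.IsCanonical k K C) :
    FunFld.ell C = FunFld.genus k K ∧ C.deg = 2 * FunFld.genus k K - 2 := by
  have h1 := riemann_roch hK hC 0
  have h2 := riemann_roch hK hC C
  rw [sub_zero, ell_zero hK, deg_zero] at h1
  rw [sub_self, ell_zero hK] at h2
  constructor <;> omega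

theorem isCanonical_of_ell_deg {C : FunFld.Divisor k K} (h1 : FunFld.ell C = FunFld.genus k K)
    (h2 : C.deg = 2 * FunFld.genus k K - 2) : FunFld.IsCanonical k K C := by
  obtain ⟨W, hW⟩ := exists_isCanonical hK
  have h := riemann_roch hK hW C
  obtain ⟨z, hz, hz'⟩ := exists_effective hK (D := W - C) (by omega)
  have h3 : W - C + FunFld.div k z = 0 := deg_nonneg_lt hK hz' (by
    rw [deg_add, deg_sub, deg_div hK, (canonical_ell_deg hK hW).2, h2]; omega)
  obtain ⟨ω, h0, hω⟩ := hW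
  have h4 : C = W + FunFld.div k z := by
    rw [← sub_eq_zero]
    calc C - (W + FunFld.div k z) = C - C - (W - C + FunFld.div k z) := by abel
      _ = 0 := by rw [h3]; abel
  refine ⟨FunFld.mulW z (fun _ ha => smul_mem_adele hK ha) ω, fun h => ?_, h4 ▸ isDivOf_mulW hK hz _ hω⟩
  exact hz (mulW_injective_of_ne_zero hK h0 _ h)

theorem ell_of_deg_large {D : FunFld.Divisor k K}
    (h : 2 * (FunFld.genus k K : ℤ) - 1 ≤ D.deg) :
    (FunFld.ell D : ℤ) = D.deg + 1 - FunFld.genus k K := by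
  obtain ⟨W, hW⟩ := exists_isCanonical hK
  have h1 := riemann_roch hK hW D
  have h2 : FunFld.ell (W - D) = 0 := by
    rw [FunFld.ell, L_eq_bot_of_deg_neg hK, finrank_bot]
    rw [deg_sub, (canonical_ell_deg hK hW).2]; omega
  omega

end Groth.Agent.H23FunFld
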