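import Groth.Agent.H23FunFld.Steps
import Mathlib.RingTheory.Valuation.LocalSubring
import Mathlib.RingTheory.Valuation.Discrete.IsDiscreteValuationRing
import Mathlib.RingTheory.PrincipalIdealDomain
import Mathlib.RingTheory.DedekindDomain.AdicValuation

/-! Existence of places, finiteness of residue fields, the degree of a principal divisor. -/

set_option autoImplicit false

namespace Groth.Agent.H23FunFld

open WithZero

variable {k K : Type*} [Field k] [Field K] [Algebra k K]

theorem mul_mem_semiBall_zero {S : Set (FunFld.Place k K)} {x y : K}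
    (hx : x ∈ semiBall S 0) (hy : y ∈ semiBall S 0) : x * y ∈ semiBall S 0 := by
  rw [mem_semiBall] at *
  intro P hP
  have h1 := hx P hP
  have h2 := hy P hP
  simp only [Finsupp.coe_zero, Pi.zero_apply, exp_zero] at *
  rw [map_mul]
  exact mul_le_one' h1 h2

/-- The semilocal ring of a set of places. -/
def semiRing (S : Set (FunFld.Place k K)) : Subalgebra k K where
  carrier := semiBall S 0
  mul_mem' := mul_mem_semiBall_zero
  add_mem' := (semiBall S 0).add_mem
  algebraMap_mem' c := mem_semiBall.2 fun P _ => by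
    have := P.2.1 c
    simpa using this

theorem finiteDimensional_of_valuationSubring (hK : FunFld.IsFunctionField k K)
    (O : ValuationSubring K) (hk : ∀ c : k, algebraMap k K c ∈ O) (y : K) (hy0 : y ≠ 0)
    (hy : O.valuation y < 1) (hyt : Transcendental k y) :
    ∃ (s : Finset K), (↑s ⊆ (O : Set K)) ∧ ∀ x ∈ O, ∃ (c : K → k) (r : K), r ∈ O ∧
      x = (∑ b ∈ s, c b • b) + y * r := by
  classical
  have hfd := finiteDimensional_adjoin hK hyt
  let R : Subalgebra k K := { O.toSubring with algebraMap_mem' := hk }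
  by_contra hcon
  simp only [not_exists, not_and, not_forall] at hcon
  -- maximal finite family independent modulo `y O`
  let n := Module.finrank (IntermediateField.adjoin k ({y} : Set K)) K
  have hbuild : ∀ m : ℕ, ∃ s : Finset K, s.card = m ∧ (↑s ⊆ (O : Set K)) ∧
      ∀ (c : K → k) (r : K), r ∈ O → ∑ b ∈ s, c b • b = y * r → ∀ b ∈ s, c b = 0 := by
    intro m
    induction m with
    | zero => exact ⟨∅, rfl, by simp, by simp⟩
    | succ m ih =>
      obtain ⟨s, hs, hsO, hli⟩ := ih
      obtain ⟨x, hxO, hx⟩ := hcon s hsO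
      have hxs : x ∉ s := by
        intro hxs
        refine hx (fun b => if b = x then 1 else 0) 0 O.zero_mem ?_
        rw [mul_zero, add_zero, Finset.sum_eq_single x]
        · simp
        · intro b _ hb; simp [hb]
        · exact fun h => absurd hxs h
      refine ⟨insert x s, by rw [Finset.card_insert_of_notMem hxs, hs], ?_, ?_⟩
      · rw [Finset.coe_insert]; exact Set.insert_subset hxO hsO
      · intro c r hr hc
        rw [Finset.sum_insert hxs] at hc
        by_cases hcx : c x = 0
        · rw [hcx, zero_smul, zero_add] at hc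
          intro b hb
          rcases Finset.mem_insert.1 hb with rfl | hb
          · exact hcx
          · exact hli c r hr hc b hb
        · exfalso
          refine hx (fun b => -(c x)⁻¹ * c b) ((c x)⁻¹ • r) ?_ ?_
          · rw [Algebra.smul_def]; exact O.mul_mem _ _ (hk _) hr
          · have : c x • x = y * r - ∑ b ∈ s, c b • b := eq_sub_of_add_eq hc
            calc x = (c x)⁻¹ • (c x • x) := (inv_smul_smul₀ hcx x).symm
              _ = _ := by
                rw [this, smul_sub, Finset.smul_sum, mul_smul_comm, sub_eq_neg_add,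
                  ← Finset.sum_neg_distrib]
                congr 1
                refine Finset.sum_congr rfl fun b _ => ?_
                rw [smul_smul, neg_mul, neg_smul]
  obtain ⟨s, hs, hsO, hli⟩ := hbuild (n + 1)
  have hind := linearIndependent_of_mod (k := k) (ι := ↥s) R (show y ∈ R from
      (O.valuation_le_one_iff y).1 hy.le) hyt (fun b => (b : K)) (fun b => hsO b.2) (by
    intro t c r hr hc
    let c' : K → k := fun b => if h : b ∈ s then (if (⟨b, h⟩ : ↥s) ∈ t then c ⟨b, h⟩ else 0) else 0
    have key : ∑ b ∈ s, c' b • b = y * r := by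
      rw [← hc, ← Finset.sum_coe_sort s]
      simp only [c', Finset.coe_mem, dite_true, Subtype.coe_eta, ite_smul, zero_smul]
      rw [Finset.sum_ite_mem, Finset.univ_inter]
    intro b hb
    have := hli c' r hr key b b.2
    simpa [c', hb] using this)
  have hcard := hind.fintype_card_le_finrank
  rw [Fintype.card_coe, hs] at hcard
  omega

theorem isNoetherianRing_valuationSubring (hK : FunFld.IsFunctionField k K)
    (O : ValuationSubring K) (hk : ∀ c : k, algebraMap k K c ∈ O) : IsNoetherianRing O := by
  refine isNoetherianRing_iff_ideal_fg O |>.2 fun I => ?_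
  classical
  rcases eq_or_ne I ⊥ with rfl | hI
  · exact Submodule.fg_bot
  obtain ⟨y, hyI, hy0⟩ := Submodule.exists_mem_ne_zero_of_ne_bot hI
  by_cases hunit : IsUnit y
  · rw [Ideal.eq_top_of_isUnit_mem I hyI hunit]; exact ⟨{1}, by simp⟩
  have hy0' : (y : K) ≠ 0 := fun h => hy0 (Subtype.ext h)
  have hylt : O.valuation (y : K) < 1 :=
    (ValuationSubring.valuation_lt_one_iff O y).1 ((IsLocalRing.mem_maximalIdeal y).2 hunit)
  have hyt : Transcendental k (y : K) := by
    intro halg
    refine hunit ?_
    have hmem : (y : K)⁻¹ ∈ O := by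
      have h1 : (y : K)⁻¹ ∈ Algebra.adjoin k ({(y : K)} : Set K) := by
        have h2 : IntermediateField.adjoin k ({(y : K)} : Set K) =
            IntermediateField.adjoin k {(y : K)} := rfl
        rw [← IntermediateField.adjoin_simple_toSubalgebra_of_isAlgebraic halg,
          IntermediateField.mem_toSubalgebra]
        exact inv_mem (IntermediateField.mem_adjoin_simple_self k (y : K))
      let R : Subalgebra k K := { O.toSubring with algebraMap_mem' := hk }
      exact (Algebra.adjoin_le (Set.singleton_subset_iff.2 (show (y : K) ∈ R from y.2))) h1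
    exact IsUnit.of_mul_eq_one ⟨_, hmem⟩ (Subtype.ext (mul_inv_cancel₀ hy0'))
  obtain ⟨s, hsO, hs⟩ := finiteDimensional_of_valuationSubring hK O hk y hy0' hylt hyt
  let J : Submodule k (↥s → k) :=
    { carrier := {c | (∑ b : ↥s, c b • (b : K)) ∈ ((↑) '' (I : Set O))}
      add_mem' := by
        rintro c d ⟨a, ha, ha'⟩ ⟨b, hb, hb'⟩
        refine ⟨a + b, I.add_mem ha hb, ?_⟩
        simp [ha', hb', add_smul, Finset.sum_add_distrib]
      zero_mem' := ⟨0, I.zero_mem, by simp⟩
      smul_mem' := by
        rintro e c ⟨a, ha, ha'⟩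
        refine ⟨⟨algebraMap k K e, hk e⟩ * a, I.mul_mem_left _ ha, ?_⟩
        simp [ha', ← Algebra.smul_def, Finset.smul_sum, smul_smul] }
  obtain ⟨t, ht⟩ := IsNoetherian.noetherian J
  have hel : ∀ c : ↥s → k, c ∈ t → ∃ a : O, a ∈ I ∧ (a : K) = ∑ b : ↥s, c b • (b : K) :=
    fun c hc => (ht ▸ Submodule.subset_span hc : c ∈ J)
  choose g hgI hg using hel
  refine ⟨insert y (t.attach.image fun c => g c.1 c.2), le_antisymm ?_ ?_⟩
  · rw [Submodule.span_le]
    intro a ha
    rcases Finset.mem_insert.1 (Finset.mem_coe.1 ha) with rfl | ha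
    · exact hyI
    · obtain ⟨c, _, rfl⟩ := Finset.mem_image.1 ha
      exact hgI c.1 c.2
  · intro x hx
    set M := Submodule.span O (↑(insert y (t.attach.image fun c => g c.1 c.2)) : Set O)
    have hyM : y ∈ M := Submodule.subset_span (Finset.mem_insert_self _ _)
    obtain ⟨c, r, hr, hxeq⟩ := hs x x.2
    have hcJ : (fun b : ↥s => c b) ∈ J := by
      refine ⟨x - y * ⟨r, hr⟩, I.sub_mem hx (I.mul_mem_right _ hyI), ?_⟩
      rw [Finset.sum_coe_sort s (fun b => c b • b)]
      push_cast
      rw [hxeq]; ring
    have main : ∀ d ∈ J, ∃ a : O, a ∈ M ∧ (a : K) = ∑ b : ↥s, d b • (b : K) := by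
      intro d hd
      rw [← ht] at hd
      induction hd using Submodule.span_induction with
      | mem d hd =>
        exact ⟨g d hd, Submodule.subset_span (Finset.mem_insert_of_mem
          (Finset.mem_image.2 ⟨⟨d, hd⟩, Finset.mem_attach _ _, rfl⟩)), hg d hd⟩
      | zero => exact ⟨0, M.zero_mem, by simp⟩
      | add d e _ _ hd he =>
        obtain ⟨a, ha, ha'⟩ := hd
        obtain ⟨b, hb, hb'⟩ := he
        exact ⟨a + b, M.add_mem ha hb, by simp [ha', hb', add_smul, Finset.sum_add_distrib]⟩
      | smul e d _ hd =>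
        obtain ⟨a, ha, ha'⟩ := hd
        refine ⟨⟨algebraMap k K e, hk e⟩ * a, M.smul_mem _ ha, ?_⟩
        simp [ha', ← Algebra.smul_def, Finset.smul_sum, smul_smul]
    obtain ⟨a, ha, ha'⟩ := main _ hcJ
    have : x = a + (⟨r, hr⟩ : O) • y := by
      apply Subtype.ext
      rw [Finset.sum_coe_sort s (fun b => c b • b)] at ha'
      simp only [smul_eq_mul]
      push_cast
      rw [hxeq, ha']; ring
    rw [this]
    exact M.add_mem ha (M.smul_mem _ hyM)

theorem exists_place_of_valuationSubring (hK : FunFld.IsFunctionField k K)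
    (O : ValuationSubring K) (hk : ∀ c : k, algebraMap k K c ∈ O) (hO : O ≠ ⊤) :
    ∃ P : FunFld.Place k K, ∀ x, P.1 x ≤ 1 ↔ x ∈ O := by
  have := isNoetherianRing_valuationSubring hK O hk
  have hPID : IsPrincipalIdealRing O := IsBezout.TFAE.out 0 1 |>.1 this
  have hne : IsLocalRing.maximalIdeal O ≠ ⊥ := by
    intro h
    apply hO
    have hf := IsLocalRing.isField_iff_maximalIdeal_eq.2 h
    apply ValuationSubring.ext
    intro x
    simp only [ValuationSubring.mem_top, iff_true]
    rcases O.mem_or_inv_mem x with hx | hx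
    · exact hx
    · rcases eq_or_ne x 0 with rfl | hx0
      · exact O.zero_mem
      obtain ⟨b, hb⟩ := hf.mul_inv_cancel (a := (⟨x⁻¹, hx⟩ : O))
        (fun h => inv_ne_zero hx0 (Subtype.ext_iff.1 h))
      have hb' : x⁻¹ * (b : K) = 1 := Subtype.ext_iff.1 hb
      have : (b : K) = x := by field_simp at hb'; exact hb'
      exact this ▸ b.2
  have : IsDiscreteValuationRing O := { not_a_field' := hne }
  let v := (IsDiscreteValuationRing.maximalIdeal O).valuation K
  have hv : ∀ x, v x ≤ 1 ↔ x ∈ O := fun x =>
    ⟨fun h => by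
      obtain ⟨a, rfl⟩ := IsDiscreteValuationRing.exists_lift_of_le_one h
      exact a.2,
    fun h => IsDedekindDomain.HeightOneSpectrum.valuation_le_one _ (⟨x, h⟩ : O)⟩
  exact ⟨⟨v, fun c => (hv _).2 (hk c),
    (IsDiscreteValuationRing.maximalIdeal O).valuation_surjective K⟩, hv⟩

theorem exists_place_lt_one (hK : FunFld.IsFunctionField k K) {x : K}
    (hx : Transcendental k x) : ∃ P : FunFld.Place k K, P.1 x < 1 := by
  let e := hx
  set A := Algebra.adjoin k ({x} : Set K) with hA
  let xA : A := ⟨x, Algebra.self_mem_adjoin_singleton k x⟩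
  have hI : (Ideal.span {xA} : Ideal A) ≠ ⊤ := by
    rw [Ne, Ideal.span_singleton_eq_top]
    intro hu
    obtain ⟨b, hb⟩ := isUnit_iff_exists_inv.1 hu
    have hb2 : (b : K) ∈ Algebra.adjoin k ({x} : Set K) := b.2
    rw [Algebra.adjoin_singleton_eq_range_aeval] at hb2
    obtain ⟨p, hp⟩ : ∃ p : Polynomial k, Polynomial.aeval x p = (b : K) := hb2
    have h1 : Polynomial.aeval x (Polynomial.X * p - 1) = 0 := by
      rw [map_sub, map_mul, Polynomial.aeval_X, map_one]
      rw [show (Polynomial.aeval x) p = (b : K) from hp]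
      rw [sub_eq_zero]; exact Subtype.ext_iff.1 hb
    have h2 := (transcendental_iff.1 hx) _ h1
    have := congrArg (Polynomial.eval 0) h2
    simp at this
  obtain ⟨O, hle, hI'⟩ := Ideal.image_subset_nonunits_valuationSubring
    (A := A.toSubring) (Ideal.span {xA}) hI
  have hxO : x ∈ O.nonunits := hI' ⟨xA, Ideal.mem_span_singleton_self _, rfl⟩
  have hx0 : x ≠ 0 := fun h => hx (h ▸ isAlgebraic_zero)
  have hO : O ≠ ⊤ := by
    intro h
    rw [O.mem_nonunits_iff_or] at hxO
    rcases hxO with h' | h'
    · exact hx0 h'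
    · exact h' (h ▸ ValuationSubring.mem_top _)
  obtain ⟨P, hP⟩ := exists_place_of_valuationSubring hK O (fun c => hle (A.algebraMap_mem c)) hO
  refine ⟨P, lt_of_not_ge fun h => ?_⟩
  rw [O.mem_nonunits_iff_or] at hxO
  rcases hxO with h' | h'
  · exact hx0 h'
  · refine h' ((hP _).1 ?_)
    rw [map_inv₀]
    exact inv_le_one_of_one_le₀ h

theorem nonempty_place (hK : FunFld.IsFunctionField k K) : Nonempty (FunFld.Place k K) := by
  obtain ⟨x, hx, -⟩ := hK.1
  exact ⟨(exists_place_lt_one hK hx).choose⟩

end Groth.Agent.H23FunFld
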