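import Groth.Agent.H23FunFld.Weil

/-! Rational function fields. -/

set_option autoImplicit false

namespace Groth.Agent.H23FunFld

variable {k K : Type*} [Field k] [Field K] [Algebra k K] (hK : FunFld.IsFunctionField k K)
include hK

theorem adjoin_eq_top_of_deg {x : K} (hx : Transcendental k x)
    (h : (poleDiv (k := k) x).deg = 1) : IntermediateField.adjoin k ({x} : Set K) = ⊤ := by
  rw [deg_poleDiv hK hx] at h
  have h' : Module.finrank (IntermediateField.adjoin k ({x} : Set K)) K = 1 := by exact_mod_cast h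
  exact IntermediateField.finrank_eq_one_iff_eq_top.1 h'

theorem poleDiv_single {x : K} {P : FunFld.Place k K} (hP : P.ord x = -1)
    (h : ∀ Q, Q ≠ P → 0 ≤ Q.ord x) : poleDiv (k := k) x = Finsupp.single P 1 := by
  ext Q
  rw [poleDiv_apply hK]
  rcases eq_or_ne Q P with rfl | hQ
  · simp [hP]
  · rw [Finsupp.single_eq_of_ne hQ]
    have := h Q hQ
    omega

theorem adjoin_eq_top_of_simple_pole {x : K} {P : FunFld.Place k K} (hd : P.deg = 1)
    (hP : P.ord x = -1) (h : ∀ Q, Q ≠ P → 0 ≤ Q.ord x) :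
    IntermediateField.adjoin k ({x} : Set K) = ⊤ := by
  refine adjoin_eq_top_of_deg hK (transcendental_of_notMem hK fun ⟨c, hc⟩ => ?_) ?_
  · rw [← hc, ord_const] at hP; omega
  · rw [poleDiv_single hK hP h, deg_single, hd]; norm_num

theorem transcendental_of_adjoin_top {x : K}
    (h : IntermediateField.adjoin k ({x} : Set K) = ⊤) : Transcendental k x := by
  intro hal
  obtain ⟨x₀, hx₀, -⟩ := hK.1
  refine hx₀ ?_
  have hb : IntermediateField.adjoin k ({x} : Set K) ≤ ⊥ := by
    rw [IntermediateField.adjoin_le_iff, Set.singleton_subset_iff]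
    exact IntermediateField.mem_bot.2 (hK.2 x hal)
  have hm : x₀ ∈ IntermediateField.adjoin k ({x} : Set K) := by rw [h]; trivial
  obtain ⟨c, hc⟩ := IntermediateField.mem_bot.1 (hb hm)
  exact hc ▸ isAlgebraic_algebraMap c

theorem genus_zero_of_adjoin_top {x : K}
    (h : IntermediateField.adjoin k ({x} : Set K) = ⊤) :
    FunFld.genus k K = 0 ∧ ∃ P : FunFld.Place k K, P.deg = 1 ∧ P.ord x = -1 ∧
      ∀ Q, Q ≠ P → 0 ≤ Q.ord x := by
  classical
  have hx := transcendental_of_adjoin_top hK h
  have hn : Module.finrank (IntermediateField.adjoin k ({x} : Set K)) K = 1 :=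
    IntermediateField.finrank_eq_one_iff_eq_top.2 h
  have hB := deg_poleDiv hK hx
  rw [hn] at hB
  -- the unique pole
  obtain ⟨P, hP⟩ := exists_pole hK (x := x) fun ⟨c, hc⟩ => hx (hc ▸ isAlgebraic_algebraMap c)
  have hle : Finsupp.single P (-P.ord x) ≤ poleDiv (k := k) x := fun Q => by
    rw [poleDiv_apply hK, Finsupp.single_apply]
    split
    · subst_vars; exact le_max_right _ _
    · exact le_max_left _ _
  have h1 := deg_mono hle
  have hd0 := deg_pos hK P
  rw [deg_single, hB, Nat.cast_one] at h1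
  have hd0' : (1 : ℤ) ≤ P.deg := by exact_mod_cast hd0
  have hP1 : P.ord x = -1 := by nlinarith
  have hd1 : P.deg = 1 := by
    rw [hP1] at h1; omega
  have heq : poleDiv (k := k) x = Finsupp.single P 1 := by
    rw [hP1, neg_neg] at hle
    have := deg_nonneg_lt hK (sub_nonneg.2 hle) (by rw [deg_sub, hB, deg_single, hd1]; simp)
    exact sub_eq_zero.1 this
  refine ⟨?_, P, hd1, hP1, fun Q hQ => ?_⟩
  · obtain ⟨N, hN⟩ := exists_large_deg hK
    have hli := linearIndependent_pow_mul hx
      ((linearIndependent_unique_iff (v := fun _ : Unit => (1 : K))).2 one_ne_zero) N.toNat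
    have hmem : ∀ p : Fin (N.toNat + 1) × Unit, x ^ (p.1 : ℕ) * (1 : K) ∈
        FunFld.L (N.toNat • poleDiv (k := k) x) := fun p => by
      rw [mul_one]
      exact L_mono (nsmul_le_nsmul_left (poleDiv_nonneg hK x)
        (Nat.lt_succ_iff.1 p.1.2)) (pow_mem_L (mem_L_poleDiv hK x) _)
    have := finiteDimensional_L hK (N.toNat • poleDiv (k := k) x)
    have hcard := (LinearIndependent.of_comp
      (FunFld.L (N.toNat • poleDiv (k := k) x)).subtype
      (v := fun p => (⟨_, hmem p⟩ : FunFld.L (N.toNat • poleDiv (k := k) x))) hli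
      ).fintype_card_le_finrank
    rw [Fintype.card_prod, Fintype.card_fin, Fintype.card_unit, mul_one] at hcard
    have hcard' : N.toNat + 1 ≤ FunFld.ell (N.toNat • poleDiv (k := k) x) := hcard
    have hdeg : (N.toNat • poleDiv (k := k) x).deg = N.toNat := by
      rw [deg_nsmul, hB]; simp
    have hg0 := hN (N.toNat • poleDiv (k := k) x) (by rw [hdeg]; omega)
    rw [phi, hdeg] at hg0
    omega
  · have h2 := congrArg (fun D : FunFld.Divisor k K => D Q) heq
    simp only [poleDiv_apply hK, Finsupp.single_eq_of_ne hQ] at h2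
    omega

theorem adjoin_top_of_genus_zero (hg : FunFld.genus k K = 0) {P : FunFld.Place k K}
    (hP : P.deg = 1) : ∃ x : K, IntermediateField.adjoin k ({x} : Set K) = ⊤ := by
  have hell := ell_ge hK (Finsupp.single P 1)
  rw [deg_single, hP, hg] at hell
  push_cast at hell
  have := finiteDimensional_L hK (0 : FunFld.Divisor k K)
  have hne : ∃ x ∈ FunFld.L (Finsupp.single P (1 : ℤ)), x ∉ FunFld.L (0 : FunFld.Divisor k K) := by
    by_contra hcon
    simp only [not_exists, not_and, not_not] at hcon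
    have h1 : FunFld.ell (Finsupp.single P (1 : ℤ)) ≤ FunFld.ell (0 : FunFld.Divisor k K) :=
      Submodule.finrank_mono (fun x hx => hcon x hx)
    rw [ell_zero hK] at h1
    omega
  obtain ⟨x, hx, hx0⟩ := hne
  have hxne : x ≠ 0 := fun h => hx0 (h ▸ Submodule.zero_mem _)
  have hc : x ∉ Set.range (algebraMap k K) := fun ⟨c, hc⟩ =>
    hx0 (hc ▸ fun Q => by simpa using Q.2.1 c)
  have hall : ∀ Q, Q ≠ P → 0 ≤ Q.ord x := fun Q hQ => by
    have := (val_le_exp_iff Q hxne).1 (hx Q)
    rw [Finsupp.single_eq_of_ne hQ] at this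
    omega
  refine ⟨x, adjoin_eq_top_of_simple_pole hK hP ?_ hall⟩
  obtain ⟨Q, hQ⟩ := exists_pole hK hc
  have hQP : Q = P := by
    by_contra hn
    have := hall Q hn; omega
  subst hQP
  have := (val_le_exp_iff Q hxne).1 (hx Q)
  rw [Finsupp.single_eq_same] at this
  omega

end Groth.Agent.H23FunFld
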