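import Groth.Prelude.Def_W4bk4goldsch23FF
import Mathlib.FieldTheory.IntermediateField.Adjoin.Algebra
import Mathlib.FieldTheory.IntermediateField.Adjoin.Basic
import Mathlib.RingTheory.Algebraic.Integral
import Mathlib.RingTheory.Valuation.Integral
import Mathlib.RingTheory.Localization.Module
import Mathlib.RingTheory.AlgebraicIndependent.AlgebraicClosure
import Mathlib.RingTheory.Adjoin.Polynomial.Bivariate
import Mathlib.FieldTheory.AlgebraicClosure

/-! Elementary facts about places of a function field of one variable. -/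

set_option autoImplicit false

namespace Groth.Agent.H23FunFld

open WithZero

variable {k K : Type*} [Field k] [Field K] [Algebra k K] (P : FunFld.Place k K)

theorem val_const {c : k} (hc : c ≠ 0) : P.1 (algebraMap k K c) = 1 := by
  refine le_antisymm (P.2.1 c) ?_
  have h := P.2.1 c⁻¹
  rw [map_inv₀, map_inv₀] at h
  exact (inv_le_one₀ (zero_lt_iff.2 (by simpa using hc))).1 h

theorem exists_val_eq (n : ℤ) : ∃ x : K, x ≠ 0 ∧ P.1 x = exp n := by
  obtain ⟨x, hx⟩ := P.2.2 (exp n)
  refine ⟨x, fun h => ?_, hx⟩
  subst h
  simp [exp] at hx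

theorem val_ne_zero {x : K} (hx : x ≠ 0) : P.1 x ≠ 0 := by simpa using hx

theorem val_eq_exp {x : K} (hx : x ≠ 0) : P.1 x = exp (-P.ord x) := by
  simp [FunFld.Place.ord, exp_log (val_ne_zero P hx)]

theorem val_le_exp_iff {x : K} (hx : x ≠ 0) {n : ℤ} : P.1 x ≤ exp n ↔ -P.ord x ≤ n := by
  rw [val_eq_exp P hx, exp_le_exp]

theorem val_le_one_iff {x : K} (hx : x ≠ 0) : P.1 x ≤ 1 ↔ 0 ≤ P.ord x := by
  have h := val_le_exp_iff P hx (n := 0)
  rw [exp_zero] at h
  rw [h]; omega

theorem val_lt_one_iff {x : K} (hx : x ≠ 0) : P.1 x < 1 ↔ 0 < P.ord x := by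
  have h : exp (-P.ord x) < exp (0 : ℤ) ↔ -P.ord x < 0 := exp_lt_exp
  rw [exp_zero] at h
  rw [val_eq_exp P hx, h]; omega

theorem ord_zero : P.ord 0 = 0 := by simp [FunFld.Place.ord]

theorem ord_const (c : k) : P.ord (algebraMap k K c) = 0 := by
  rcases eq_or_ne c 0 with rfl | hc
  · simp [ord_zero]
  · simp [FunFld.Place.ord, val_const P hc]

theorem ord_mul {x y : K} (hx : x ≠ 0) (hy : y ≠ 0) : P.ord (x * y) = P.ord x + P.ord y := by
  have h := val_eq_exp P (mul_ne_zero hx hy)
  rw [map_mul, val_eq_exp P hx, val_eq_exp P hy, ← exp_add, exp_inj] at h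
  omega

theorem ord_inv (x : K) : P.ord x⁻¹ = -P.ord x := by
  rcases eq_or_ne x 0 with rfl | hx
  · simp [ord_zero]
  · simp [FunFld.Place.ord, map_inv₀, log_inv]

theorem val_smul_le (c : k) (x : K) : P.1 (c • x) ≤ P.1 x := by
  rw [Algebra.smul_def, map_mul]
  exact mul_le_of_le_one_left zero_le (P.2.1 c)

theorem transcendental_of_val_ne_one {x : K} (hx : x ≠ 0) (h : P.1 x ≠ 1) :
    Transcendental k x := by
  intro halg
  refine h ?_
  have key : ∀ y : K, IsAlgebraic k y → P.1 y ≤ 1 := by
    intro y hy
    by_contra hlt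
    rw [not_le] at hlt
    obtain ⟨p, hp, hmon⟩ : ∃ p : Polynomial k, Polynomial.aeval y p = 0 ∧ p.Monic :=
      ⟨minpoly k y, minpoly.aeval k y, minpoly.monic hy.isIntegral⟩
    rw [Polynomial.aeval_def, Polynomial.eval₂_eq_sum_range, Finset.sum_range_succ,
      hmon.coeff_natDegree, map_one, one_mul] at hp
    have h1 : P.1 (∑ i ∈ Finset.range p.natDegree, algebraMap k K (p.coeff i) * y ^ i)
        < P.1 (y ^ p.natDegree) := by
      refine P.1.map_sum_lt (pow_ne_zero _ (ne_of_gt (zero_lt_one.trans hlt))
        |> fun h => by simpa [map_pow] using h) fun i hi => ?_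
      rw [map_mul, map_pow, map_pow]
      exact (mul_le_of_le_one_left zero_le (P.2.1 _)).trans_lt
        (pow_lt_pow_right₀ hlt (Finset.mem_range.1 hi))
    have h2 : P.1 (y ^ p.natDegree) = P.1 (∑ i ∈ Finset.range p.natDegree,
        algebraMap k K (p.coeff i) * y ^ i) := by
      rw [← Valuation.map_neg P.1 (∑ i ∈ Finset.range p.natDegree, _)]
      congr 1
      exact eq_neg_of_add_eq_zero_right hp
    exact h1.ne h2.symm
  refine le_antisymm (key x halg) ?_
  have := key x⁻¹ halg.inv
  rw [map_inv₀] at this
  exact (inv_le_one₀ (zero_lt_iff.2 (val_ne_zero P hx))).1 this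

theorem finiteDimensional_of_exchange (Ky Kx : IntermediateField k K) (x : K)
    (hKx : Kx = IntermediateField.adjoin k ({x} : Set K)) [FiniteDimensional Kx K]
    (hxy : IsAlgebraic Ky x) : FiniteDimensional Ky K := by
  have hle : ∀ M : IntermediateField Ky K, x ∈ M → ∀ w ∈ Kx, w ∈ M := by
    intro M hM w hw
    have : Kx ≤ M.restrictScalars k := by
      rw [hKx, IntermediateField.adjoin_le_iff, Set.singleton_subset_iff]
      exact hM
    exact this hw
  have hall : ∀ z : K, IsAlgebraic Ky z := by
    intro z
    obtain ⟨p, hp0, hp⟩ := Algebra.IsAlgebraic.isAlgebraic (R := Kx) z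
    have hA : IsAlgebraic (algebraicClosure Ky K) z := by
      let f : Kx →+* algebraicClosure Ky K :=
        (Kx.val : Kx →+* K).codRestrict (algebraicClosure Ky K).toSubalgebra.toSubring
          fun w => hle _ (mem_algebraicClosure_iff.2 hxy) w w.2
      refine ⟨p.map f, (Polynomial.map_ne_zero_iff f.injective).2 hp0, ?_⟩
      rw [Polynomial.aeval_def, Polynomial.eval₂_map]
      exact hp
    exact hA.restrictScalars Ky
  obtain ⟨s, hs⟩ := Module.finite_def.1 (inferInstance : FiniteDimensional Kx K)
  have hF : FiniteDimensional Ky (IntermediateField.adjoin Ky (insert x (s : Set K))) :=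
    have : Finite ↑(insert x (s : Set K)) := (Set.Finite.insert x s.finite_toSet).to_subtype
    IntermediateField.finiteDimensional_adjoin fun z _ => (hall z).isIntegral
  obtain ⟨M, hM⟩ : ∃ M, M = IntermediateField.adjoin Ky (insert x (s : Set K)) := ⟨_, rfl⟩
  have hxM : x ∈ M := hM ▸ IntermediateField.subset_adjoin _ _ (Set.mem_insert _ _)
  have htop : M = ⊤ := by
    rw [eq_top_iff]
    rintro z -
    have hz : z ∈ Submodule.span Kx (s : Set K) := by rw [hs]; trivial
    induction hz using Submodule.span_induction with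
    | mem w hw => exact hM ▸ IntermediateField.subset_adjoin _ _ (Set.mem_insert_of_mem _ hw)
    | zero => exact zero_mem M
    | add a b _ _ ha hb => exact add_mem ha hb
    | smul c a _ ha => exact mul_mem (hle M hxM c c.2) ha
  rw [← hM, htop] at hF
  exact IntermediateField.topEquiv.toLinearEquiv.finiteDimensional

theorem finiteDimensional_adjoin (hK : FunFld.IsFunctionField k K) {y : K}
    (hy : Transcendental k y) :
    FiniteDimensional (IntermediateField.adjoin k ({y} : Set K)) K := by
  obtain ⟨⟨x, hx, hfin⟩, -⟩ := hK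
  exact finiteDimensional_of_exchange _ _ x rfl
    (IntermediateField.isAlgebraic_adjoin_iff.mpr (.adjoin_singleton hx hy
      (IntermediateField.isAlgebraic_adjoin_iff.mp (Algebra.IsAlgebraic.isAlgebraic y))))

theorem transcendental_of_notMem (hK : FunFld.IsFunctionField k K) {x : K}
    (hx : x ∉ Set.range (algebraMap k K)) : Transcendental k x :=
  fun h => hx (hK.2 x h)

theorem adjoin_inv (x : K) :
    IntermediateField.adjoin k ({x⁻¹} : Set K) = IntermediateField.adjoin k ({x} : Set K) := by
  refine le_antisymm ?_ ?_ <;> rw [IntermediateField.adjoin_le_iff, Set.singleton_subset_iff]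
  · exact inv_mem (IntermediateField.mem_adjoin_simple_self k x)
  · simpa using inv_mem (IntermediateField.mem_adjoin_simple_self k x⁻¹)

open IntermediateField.algebraAdjoinAdjoin in
/-- The independence lemma: if `y` is a transcendental element of a subalgebra `R` and elements
`b i` of `R` are linearly independent modulo `y R`, then they are linearly independent over
`k(y)`. -/
theorem linearIndependent_of_mod {ι : Type*} (R : Subalgebra k K) {y : K} (hyR : y ∈ R)
    (hy : Transcendental k y) (b : ι → K) (hb : ∀ i, b i ∈ R)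
    (hli : ∀ (s : Finset ι) (c : ι → k) (r : K), r ∈ R → ∑ i ∈ s, c i • b i = y * r →
      ∀ i ∈ s, c i = 0) :
    LinearIndependent (IntermediateField.adjoin k ({y} : Set K)) b := by
  classical
  rw [← LinearIndependent.iff_fractionRing (R := Algebra.adjoin k ({y} : Set K)),
    linearIndependent_iff']
  intro s g hg
  have hrep : ∀ i, ∃ p : Polynomial k, (g i : K) = Polynomial.aeval y p := by
    intro i
    have h := (g i).2
    generalize (g i : K) = z at h ⊢
    rw [Algebra.adjoin_singleton_eq_range_aeval] at h
    have := h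
    obtain ⟨p, hp⟩ := this
    exact ⟨p, hp.symm⟩
  choose p hp using hrep
  have hy0 : y ≠ 0 := fun h => hy (h ▸ isAlgebraic_zero)
  have main : ∀ (N : ℕ) (q : ι → Polynomial k), ∑ i ∈ s, Polynomial.aeval y (q i) * b i = 0 →
      ∀ i ∈ s, (q i).coeff N = 0 := by
    intro N
    induction N with
    | zero =>
      intro q hq
      refine hli s _ (-∑ i ∈ s, Polynomial.aeval y (q i).divX * b i) (neg_mem (sum_mem fun i _ =>
        mul_mem ?_ (hb i))) ?_
      · exact Algebra.adjoin_le (Set.singleton_subset_iff.2 hyR)
          (Polynomial.aeval_mem_adjoin_singleton _ _)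
      · have e : ∀ i, Polynomial.aeval y (q i) * b i =
            y * (Polynomial.aeval y (q i).divX * b i) + (q i).coeff 0 • b i := by
          intro i
          conv_lhs => rw [← Polynomial.X_mul_divX_add (q i)]
          rw [map_add, map_mul, Polynomial.aeval_X, Polynomial.aeval_C, Algebra.smul_def]
          ring
        simp only [e, Finset.sum_add_distrib, ← Finset.mul_sum] at hq
        rw [mul_neg, eq_neg_iff_add_eq_zero, add_comm]
        exact hq
    | succ N ih =>
      intro q hq
      have h0 : ∀ i ∈ s, (q i).coeff 0 = 0 := by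
        refine hli s _ (-∑ i ∈ s, Polynomial.aeval y (q i).divX * b i) (neg_mem (sum_mem fun i _ =>
          mul_mem ?_ (hb i))) ?_
        · exact Algebra.adjoin_le (Set.singleton_subset_iff.2 hyR)
            (Polynomial.aeval_mem_adjoin_singleton _ _)
        · have e : ∀ i, Polynomial.aeval y (q i) * b i =
              y * (Polynomial.aeval y (q i).divX * b i) + (q i).coeff 0 • b i := by
            intro i
            conv_lhs => rw [← Polynomial.X_mul_divX_add (q i)]
            rw [map_add, map_mul, Polynomial.aeval_X, Polynomial.aeval_C, Algebra.smul_def]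
            ring
          simp only [e, Finset.sum_add_distrib, ← Finset.mul_sum] at hq
          rw [mul_neg, eq_neg_iff_add_eq_zero, add_comm]
          exact hq
      have hq' : y * ∑ i ∈ s, Polynomial.aeval y (q i).divX * b i = 0 := by
        rw [Finset.mul_sum, ← hq]
        refine Finset.sum_congr rfl fun i hi => ?_
        conv_rhs => rw [← Polynomial.X_mul_divX_add (q i)]
        rw [map_add, map_mul, Polynomial.aeval_X, h0 i hi]
        simp [mul_assoc]
      have := ih (fun i => (q i).divX) ((mul_eq_zero.1 hq').resolve_left hy0)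
      intro i hi
      have := this i hi
      simpa [Polynomial.coeff_divX] using this
  intro i hi
  have hz : p i = 0 := by
    ext N
    simpa using main N p (by
      rw [← hg]
      refine Finset.sum_congr rfl fun j _ => ?_
      rw [← hp]
      rfl) i hi
  exact Subtype.ext (by rw [hp, hz]; simp)

end Groth.Agent.H23FunFld
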