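import Mathlib
import Groth.Prelude.Def_AdFn
import Groth.Agent.H23FunFld.Basic

/-!
Elements of a completion at a place are approximated by elements of the field.
-/

set_option autoImplicit false

universe u

namespace Groth.Agent.H23FunFld

variable {k K : Type u} [Field k] [Field K] [Algebra k K] (v : FunFld.Place k K)

theorem exists_sub_mem_Ov (a : AdFn.Kv v) : ∃ x : K, a - AdFn.toKv v x ∈ AdFn.Ov v := by
  obtain ⟨w, hw⟩ := (UniformSpace.Completion.denseRange_coe (α := WithVal v.1)).exists_mem_open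
    (s := (fun y => a - y) ⁻¹' (AdFn.Ov v : Set (AdFn.Kv v))) ((AdFn.isOpen_Ov v).preimage (by fun_prop))
    ⟨a, by rw [Set.mem_preimage, sub_self]; exact zero_mem (AdFn.Ov v)⟩
  refine ⟨w.ofVal, ?_⟩
  rw [AdFn.toKv_apply]
  exact hw

theorem algebraMap_mem_Ov (c : k) : algebraMap k (AdFn.Kv v) c ∈ AdFn.Ov v := by
  rw [IsScalarTower.algebraMap_apply k K (AdFn.Kv v)]
  exact (AdFn.toKv_mem_Ov v _).2 (v.2.1 c)

theorem span_Ov : (Submodule.span k (AdFn.Ov v : Set (AdFn.Kv v)) : Set (AdFn.Kv v)) = AdFn.Ov v := by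
  refine Set.Subset.antisymm (fun x hx => ?_) Submodule.subset_span
  induction hx using Submodule.span_induction with
  | mem y hy => exact hy
  | zero => exact zero_mem _
  | add a b _ _ ha hb => exact add_mem ha hb
  | smul c a _ ha => rw [Algebra.smul_def]; exact mul_mem (algebraMap_mem_Ov v c) ha

end Groth.Agent.H23FunFld
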