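import Mathlib.LinearAlgebra.FiniteDimensional.Basic
import Mathlib.LinearAlgebra.Isomorphisms
import Mathlib.LinearAlgebra.Dimension.RankNullity
import Mathlib.LinearAlgebra.FiniteDimensional.Lemmas
import Mathlib.RingTheory.Finiteness.Finsupp

/-! The dimension of a relative quotient `B / A` of subspaces. -/

set_option autoImplicit false

namespace Groth.Agent.H23FunFld

variable {k V W : Type*} [Field k] [AddCommGroup V] [Module k V] [AddCommGroup W] [Module k W]

/-- `B/A` is finite-dimensional of dimension `n` (meant for `A ≤ B`). -/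
def RelDim (A B : Submodule k V) (n : ℤ) : Prop :=
  FiniteDimensional k (↥B ⧸ A.comap B.subtype) ∧
    (Module.finrank k (↥B ⧸ A.comap B.subtype) : ℤ) = n

theorem RelDim.unique {A B : Submodule k V} {m n : ℤ} (h : RelDim A B m) (h' : RelDim A B n) :
    m = n := h.2.symm.trans h'.2

theorem RelDim.nonneg {A B : Submodule k V} {n : ℤ} (h : RelDim A B n) : 0 ≤ n :=
  h.2 ▸ Int.natCast_nonneg _

theorem RelDim.refl (A : Submodule k V) : RelDim A A 0 := by
  have : Subsingleton (↥A ⧸ A.comap A.subtype) := by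
    rw [Submodule.Quotient.subsingleton_iff]; simp
  exact ⟨inferInstance, by simp [Module.finrank_zero_of_subsingleton]⟩

theorem RelDim.le_of_eq_zero {A B : Submodule k V} (h : RelDim A B 0) : B ≤ A := by
  have := h.1
  have h0 : Module.finrank k (↥B ⧸ A.comap B.subtype) = 0 := by exact_mod_cast h.2
  rw [Module.finrank_zero_iff, Submodule.Quotient.subsingleton_iff] at h0
  intro x hx
  have : (⟨x, hx⟩ : B) ∈ A.comap B.subtype := by rw [h0]; trivial
  exact this

theorem RelDim.trans {A B C : Submodule k V} (hAB : A ≤ B) (hBC : B ≤ C) {m n : ℤ}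
    (h₁ : RelDim A B m) (h₂ : RelDim B C n) : RelDim A C (m + n) := by
  have := h₁.1
  have := h₂.1
  let f : ↥B ⧸ A.comap B.subtype →ₗ[k] ↥C ⧸ A.comap C.subtype :=
    Submodule.mapQ _ _ (Submodule.inclusion hBC) (fun x hx => hx)
  let g : ↥C ⧸ A.comap C.subtype →ₗ[k] ↥C ⧸ B.comap C.subtype :=
    Submodule.factor (fun x hx => hAB hx)
  have hf : Function.Injective f := by
    rw [← LinearMap.ker_eq_bot, Submodule.eq_bot_iff]
    intro x hx
    induction x using Submodule.Quotient.induction_on with
    | _ x =>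
      change (Submodule.Quotient.mk (Submodule.inclusion hBC x) : ↥C ⧸ A.comap C.subtype) = 0 at hx
      rw [Submodule.Quotient.mk_eq_zero] at hx
      rw [Submodule.Quotient.mk_eq_zero]
      exact hx
  have hg : Function.Surjective g := Submodule.factor_surjective _
  have hex : Function.Exact f g := by
    intro x
    induction x using Submodule.Quotient.induction_on with
    | _ x =>
      constructor
      · intro hx
        change (Submodule.Quotient.mk x : ↥C ⧸ B.comap C.subtype) = 0 at hx
        rw [Submodule.Quotient.mk_eq_zero] at hx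
        exact ⟨Submodule.Quotient.mk ⟨x.1, hx⟩, rfl⟩
      · rintro ⟨y, hy⟩
        induction y using Submodule.Quotient.induction_on with
        | _ y =>
          rw [← hy]
          change (Submodule.Quotient.mk (Submodule.inclusion hBC y) : ↥C ⧸ B.comap C.subtype) = 0
          rw [Submodule.Quotient.mk_eq_zero]
          exact y.2
  have hfin : FiniteDimensional k (↥C ⧸ A.comap C.subtype) :=
    Module.Finite.of_exact hex hg
  refine ⟨hfin, ?_⟩
  have := LinearMap.finrank_range_add_finrank_ker g
  rw [LinearMap.range_eq_top.2 hg, finrank_top, hex.linearMap_ker_eq,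
    LinearMap.finrank_range_of_inj hf] at this
  rw [← h₁.2, ← h₂.2]
  omega

theorem RelDim.of_surjective {A B : Submodule k V} [FiniteDimensional k W] (f : B →ₗ[k] W)
    (hf : Function.Surjective f) (hker : ∀ x : B, f x = 0 ↔ (x : V) ∈ A) :
    RelDim A B (Module.finrank k W) := by
  have hk : LinearMap.ker f = A.comap B.subtype := by ext x; exact hker x
  let e := (Submodule.quotEquivOfEq _ _ hk).symm.trans (f.quotKerEquivOfSurjective hf)
  exact ⟨e.symm.finiteDimensional, by rw [e.finrank_eq]⟩

theorem relDim_inf_iff_sup (A B : Submodule k V) (n : ℤ) :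
    RelDim (A ⊓ B) A n ↔ RelDim B (A ⊔ B) n := by
  have hk : (A ⊓ B).comap A.subtype = A.comap A.subtype ⊓ B.comap A.subtype := rfl
  let e := (Submodule.quotEquivOfEq _ _ hk).trans (LinearMap.quotientInfEquivSupQuotient A B)
  constructor
  · rintro ⟨h1, h2⟩
    exact ⟨e.finiteDimensional, by rw [← e.finrank_eq]; exact h2⟩
  · rintro ⟨h1, h2⟩
    exact ⟨e.symm.finiteDimensional, by rw [e.finrank_eq]; exact h2⟩

/-- The dimension of `(B + C)/(A + C)`. -/
theorem RelDim.sup_of_inf {A B C : Submodule k V} (hAB : A ≤ B) {m n : ℤ}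
    (h : RelDim A B n) (hC : RelDim (A ⊓ C) (B ⊓ C) m) :
    RelDim (A ⊔ C) (B ⊔ C) (n - m) := by
  have h1 : RelDim A (A ⊔ B ⊓ C) m := by
    have e : B ⊓ C ⊓ A = A ⊓ C := by
      rw [inf_comm B C, inf_assoc, inf_eq_right.2 hAB, inf_comm]
    have := (relDim_inf_iff_sup (B ⊓ C) A m).1 (e ▸ hC)
    rwa [sup_comm] at this
  have hle : A ⊔ B ⊓ C ≤ B := sup_le hAB inf_le_left
  have hfinB : FiniteDimensional k (↥B ⧸ (A ⊔ B ⊓ C).comap B.subtype) := by
    have := h.1
    exact Module.Finite.of_surjective (Submodule.factor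
      (show A.comap B.subtype ≤ (A ⊔ B ⊓ C).comap B.subtype from fun x hx =>
        Submodule.mem_sup_left hx)) (Submodule.factor_surjective _)
  have h2 : RelDim (A ⊔ B ⊓ C) B (n - m) := by
    have h3 : RelDim (A ⊔ B ⊓ C) B _ := ⟨hfinB, rfl⟩
    have := (h1.trans le_sup_left hle h3).unique h
    refine ⟨hfinB, ?_⟩
    omega
  have e1 : B ⊓ (A ⊔ C) = A ⊔ B ⊓ C := by
    rw [inf_comm B (A ⊔ C), sup_inf_assoc_of_le C hAB, inf_comm C B]
  have e2 : B ⊔ (A ⊔ C) = B ⊔ C := by rw [← sup_assoc, sup_eq_left.2 hAB]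
  have := (relDim_inf_iff_sup B (A ⊔ C) (n - m)).1 (e1 ▸ h2)
  rwa [e2] at this

theorem finrank_eq_of_relDim_bot {B : Submodule k V} {n : ℤ} (h : RelDim ⊥ B n) :
    FiniteDimensional k B ∧ (Module.finrank k B : ℤ) = n := by
  have hk : (⊥ : Submodule k V).comap B.subtype = ⊥ := by simp
  let e := (Submodule.quotEquivOfEq _ _ hk).trans (Submodule.quotEquivOfEqBot _ rfl)
  have := h.1
  exact ⟨e.finiteDimensional, by rw [← e.finrank_eq]; exact h.2⟩

theorem RelDim.finiteDimensional_of_finite {A B : Submodule k V} (hAB : A ≤ B) {n : ℤ}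
    (h : RelDim A B n) [FiniteDimensional k A] :
    FiniteDimensional k B ∧ (Module.finrank k B : ℤ) = Module.finrank k A + n := by
  refine finrank_eq_of_relDim_bot (RelDim.trans bot_le hAB ?_ h)
  have hk : (⊥ : Submodule k V).comap A.subtype = ⊥ := by simp
  let e := (Submodule.quotEquivOfEq _ _ hk).trans (Submodule.quotEquivOfEqBot _ rfl)
  exact ⟨e.symm.finiteDimensional, by rw [e.finrank_eq]⟩

end Groth.Agent.H23FunFld
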