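import Groth.Agent.H23FunFld.Approx
import Groth.Agent.H23FunFld.RelDim

/-! Raising a divisor by one place: dimension counts for repartition spaces. -/

set_option autoImplicit false

namespace Groth.Agent.H23FunFld

open WithZero

variable {k K : Type*} [Field k] [Field K] [Algebra k K]

/-- The ball `v_P x ≤ exp n`. -/
def ball (P : FunFld.Place k K) (n : ℤ) : Submodule k K where
  carrier := {x | P.1 x ≤ exp n}
  add_mem' {x y} hx hy := (P.1.map_add x y).trans (max_le hx hy)
  zero_mem' := by simp
  smul_mem' c x hx := (val_smul_le P c x).trans hx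

theorem mem_ball {P : FunFld.Place k K} {n : ℤ} {x : K} : x ∈ ball P n ↔ P.1 x ≤ exp n := Iff.rfl

theorem algebraMap_O_coe (P : FunFld.Place k K) (c : k) :
    ((algebraMap k P.O c : P.O) : K) = algebraMap k K c := rfl

/-- The leading coefficient map on a ball. -/
theorem exists_ballMap (P : FunFld.Place k K) (n : ℤ) :
    ∃ f : ball P n →ₗ[k] IsLocalRing.ResidueField P.O,
      Function.Surjective f ∧ ∀ x, f x = 0 ↔ P.1 (x : K) ≤ exp (n - 1) := by
  obtain ⟨s, hs0, hs⟩ := exists_val_eq P (-n)
  have hmem : ∀ x : ball P n, P.1 ((x : K) * s) ≤ 1 := fun x => by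
    rw [map_mul, hs]
    calc P.1 (x : K) * exp (-n) ≤ exp n * exp (-n) := mul_le_mul' x.2 le_rfl
      _ = 1 := by rw [← exp_add, add_neg_cancel, exp_zero]
  let g : ball P n → P.O := fun x => ⟨(x : K) * s, hmem x⟩
  let f : ball P n →ₗ[k] IsLocalRing.ResidueField P.O :=
    { toFun := fun x => IsLocalRing.residue P.O (g x)
      map_add' := fun x y => by
        rw [← map_add]
        congr 1
        exact Subtype.ext (add_mul (x : K) y s)
      map_smul' := fun c x => by
        refine Eq.trans ?_ (Algebra.smul_def c (IsLocalRing.residue P.O (g x))).symm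
        change _ = IsLocalRing.residue P.O (algebraMap k P.O c) * _
        rw [← map_mul]
        congr 1
        apply Subtype.ext
        change (c • (x : K)) * s = algebraMap k K c * ((x : K) * s)
        rw [Algebra.smul_def, mul_assoc] }
  refine ⟨f, ?_, ?_⟩
  · intro r
    obtain ⟨a, rfl⟩ := IsLocalRing.residue_surjective r
    have ha : P.1 (a : K) ≤ 1 := a.2
    have hball : (a : K) / s ∈ ball P n := by
      rw [mem_ball, map_div₀, hs, div_eq_mul_inv, ← exp_neg, neg_neg]
      exact mul_le_of_le_one_left zero_le ha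
    refine ⟨⟨_, hball⟩, congrArg (IsLocalRing.residue P.O) (Subtype.ext ?_)⟩
    exact div_mul_cancel₀ _ hs0
  · intro x
    change IsLocalRing.residue P.O (g x) = 0 ↔ _
    rw [IsLocalRing.residue_eq_zero_iff, ValuationSubring.valuation_lt_one_iff,
      ← P.1.isEquiv_valuation_valuationSubring.lt_one_iff_lt_one]
    change P.1 ((x : K) * s) < 1 ↔ _
    rcases eq_or_ne (x : K) 0 with h | h
    · simp [h]
    · rw [map_mul, hs, val_eq_exp P h, ← exp_add, exp_le_exp]
      have hh : exp (-P.ord (x : K) + -n) < exp (0 : ℤ) ↔ -P.ord (x : K) + -n < 0 := exp_lt_exp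
      rw [exp_zero] at hh
      rw [hh]
      omega

variable {V : Type*} [AddCommGroup V] [Module k V]

/-- One step: the quotient is the whole residue field. -/
theorem relDim_step {A B : Submodule k V} (φ : V →ₗ[k] K) (P : FunFld.Place k K) (n : ℤ)
    [FiniteDimensional k (IsLocalRing.ResidueField P.O)]
    (hB : ∀ x ∈ B, P.1 (φ x) ≤ exp n)
    (hA : ∀ x ∈ B, (x ∈ A ↔ P.1 (φ x) ≤ exp (n - 1)))
    (hsurj : ∀ a : K, P.1 a ≤ exp n → ∃ x ∈ B, P.1 (φ x - a) ≤ exp (n - 1)) :
    RelDim A B P.deg := by
  obtain ⟨f, hf, hker⟩ := exists_ballMap P n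
  refine RelDim.of_surjective (f.comp ((φ.comp B.subtype).codRestrict (ball P n) fun x => hB x x.2))
    ?_ ?_
  · intro r
    obtain ⟨a, rfl⟩ := hf r
    obtain ⟨x, hx, hxa⟩ := hsurj a a.2
    refine ⟨⟨x, hx⟩, ?_⟩
    rw [← sub_eq_zero, LinearMap.comp_apply, ← map_sub, hker]
    exact hxa
  · intro x
    rw [LinearMap.comp_apply, hker, hA x x.2]
    rfl

/-- One step, upper bound. -/
theorem relDim_step_le {A B : Submodule k V} (φ : V →ₗ[k] K) (P : FunFld.Place k K) (n : ℤ)
    [FiniteDimensional k (IsLocalRing.ResidueField P.O)]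
    (hB : ∀ x ∈ B, P.1 (φ x) ≤ exp n)
    (hA : ∀ x ∈ B, (x ∈ A ↔ P.1 (φ x) ≤ exp (n - 1))) :
    ∃ d : ℤ, d ≤ P.deg ∧ RelDim A B d := by
  obtain ⟨f, hf, hker⟩ := exists_ballMap P n
  let g := f.comp ((φ.comp B.subtype).codRestrict (ball P n) fun x => hB x x.2)
  refine ⟨Module.finrank k (LinearMap.range g), ?_, RelDim.of_surjective g.rangeRestrict
    g.surjective_rangeRestrict fun x => ?_⟩
  · exact_mod_cast Submodule.finrank_le _
  · have : g.rangeRestrict x = 0 ↔ g x = 0 := Subtype.ext_iff
    rw [this, LinearMap.comp_apply, hker, hA x x.2]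
    rfl

theorem eff_induction {motive : FunFld.Divisor k K → Prop} (h0 : motive 0)
    (hstep : ∀ (E : FunFld.Divisor k K) (P : FunFld.Place k K), 0 ≤ E → motive E →
      motive (E + Finsupp.single P 1))
    (E : FunFld.Divisor k K) (hE : 0 ≤ E) : motive E := by
  induction E using Finsupp.induction with
  | zero => exact h0
  | single_add P b E hP hb ih =>
    have hEP : E P = 0 := Finsupp.notMem_support_iff.1 hP
    have h1 : 0 ≤ E := by
      intro Q
      rcases eq_or_ne Q P with rfl | hQ
      · simp [hEP]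
      · simpa [Finsupp.single_eq_of_ne hQ] using hE Q
    have hb0 : 0 ≤ b := by simpa [hEP] using hE P
    lift b to ℕ using hb0
    clear hb hE
    induction b with
    | zero => simpa using ih h1
    | succ b ihb =>
      have h2 : 0 ≤ Finsupp.single P (b : ℤ) + E :=
        add_nonneg (Finsupp.single_nonneg.2 (Int.natCast_nonneg b)) h1
      have := hstep _ P h2 ihb
      rw [add_assoc, add_comm E, ← add_assoc, ← Finsupp.single_add] at this
      exact_mod_cast this

theorem deg_add (D E : FunFld.Divisor k K) : (D + E).deg = D.deg + E.deg :=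
  Finsupp.sum_add_index' (fun _ => zero_mul _) (fun _ _ _ => add_mul _ _ _)

theorem deg_zero : (0 : FunFld.Divisor k K).deg = 0 := Finsupp.sum_zero_index

theorem deg_single (P : FunFld.Place k K) (n : ℤ) :
    FunFld.Divisor.deg (Finsupp.single P n) = n * P.deg :=
  Finsupp.sum_single_index (zero_mul _)

theorem deg_neg (D : FunFld.Divisor k K) : (-D).deg = -D.deg := by
  have := deg_add D (-D)
  rw [add_neg_cancel, deg_zero] at this
  omega

theorem deg_sub (D E : FunFld.Divisor k K) : (D - E).deg = D.deg - E.deg := by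
  rw [sub_eq_add_neg, deg_add, deg_neg, sub_eq_add_neg]

theorem deg_nonneg {D : FunFld.Divisor k K} (h : 0 ≤ D) : 0 ≤ D.deg :=
  Finset.sum_nonneg fun P _ => mul_nonneg (h P) (Int.natCast_nonneg _)

theorem deg_mono {D E : FunFld.Divisor k K} (h : D ≤ E) : D.deg ≤ E.deg := by
  have := deg_nonneg (sub_nonneg.2 h)
  rw [deg_sub] at this
  omega

/-- `∀ P ∈ S, v_P x ≤ exp (D P)`. -/
def semiBall (S : Set (FunFld.Place k K)) (D : FunFld.Divisor k K) : Submodule k K :=
  ⨅ P ∈ S, ball P (D P)

theorem mem_semiBall {S : Set (FunFld.Place k K)} {D : FunFld.Divisor k K} {x : K} :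
    x ∈ semiBall S D ↔ ∀ P ∈ S, P.1 x ≤ exp (D P) := by
  simp [semiBall, Submodule.mem_iInf, mem_ball]

theorem semiBall_mono {S : Set (FunFld.Place k K)} {D E : FunFld.Divisor k K} (h : D ≤ E) :
    semiBall S D ≤ semiBall S E := fun _ hx =>
  mem_semiBall.2 fun P hP => (mem_semiBall.1 hx P hP).trans (exp_le_exp.2 (h P))

theorem relDim_semiBall (S : Finset (FunFld.Place k K))
    (hfin : ∀ P ∈ S, FiniteDimensional k (IsLocalRing.ResidueField P.O))
    (D E : FunFld.Divisor k K) (hE : 0 ≤ E) (hsupp : E.support ⊆ S) :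
    RelDim (semiBall (S : Set (FunFld.Place k K)) D) (semiBall S (D + E)) E.deg := by
  classical
  revert hsupp
  refine eff_induction (motive := fun E => E.support ⊆ S →
    RelDim (semiBall (S : Set (FunFld.Place k K)) D) (semiBall S (D + E)) E.deg) ?_ ?_ E hE
  · intro _
    simpa [deg_zero] using RelDim.refl _
  · intro E P hE ih hsupp
    have hsupp' : E.support ⊆ S := by
      intro Q hQ
      refine hsupp ?_
      rw [Finsupp.mem_support_iff] at hQ ⊢
      have : 0 ≤ E Q := hE Q
      rcases eq_or_ne Q P with rfl | h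
      · simp; omega
      · simpa [Finsupp.single_eq_of_ne h] using hQ
    have hPS : P ∈ S := hsupp (by
      rw [Finsupp.mem_support_iff]
      have : 0 ≤ E P := hE P
      simp; omega)
    have := hfin P hPS
    rw [deg_add, deg_single, one_mul]
    refine RelDim.trans (semiBall_mono (le_add_of_nonneg_right hE))
      (semiBall_mono ?_) (ih hsupp') ?_
    · rw [← add_assoc]; exact le_add_of_nonneg_right (Finsupp.single_nonneg.2 zero_le_one)
    refine relDim_step LinearMap.id P (D P + E P + 1) ?_ ?_ ?_
    · intro x hx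
      have := mem_semiBall.1 hx P hPS
      simp only [Finsupp.add_apply, Finsupp.single_eq_same] at this
      rwa [add_assoc]
    · intro x hx
      rw [mem_semiBall, LinearMap.id_apply, add_sub_cancel_right]
      refine ⟨fun h => by simpa using h P hPS, fun h Q hQ => ?_⟩
      rcases eq_or_ne Q P with rfl | hQP
      · simpa using h
      · simpa [Finsupp.single_eq_of_ne hQP] using mem_semiBall.1 hx Q hQ
    · intro a ha
      obtain ⟨x, hx⟩ := approximation S (fun Q => if Q = P then a else 0)
        (fun Q => if Q = P then D P + E P else (D + E) Q)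
      refine ⟨x, mem_semiBall.2 fun Q hQ => ?_, ?_⟩
      · rcases eq_or_ne Q P with rfl | hQP
        · have := hx Q hQ
          simp only [if_true] at this
          rw [show x = (x - a) + a by ring]
          refine (Q.1.map_add _ _).trans (max_le (this.trans (exp_le_exp.2 ?_)) ?_)
          · simp
          · simpa [add_assoc] using ha
        · simpa [hQP, Finsupp.single_eq_of_ne hQP] using hx Q hQ
      · simpa using hx P hPS

end Groth.Agent.H23FunFld
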